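import Mathlib
import Cfsg.Prelude.Def_Classical
import Cfsg.Prelude.Def_KGroupFacts
import Cfsg.Prelude.Def_Local
import Cfsg.Agent.Helper1.Fitting
import Cfsg.Agent.Helper2.Layer3
import Cfsg.Agent.Helper9.MonsterType.BabyBuild
import Cfsg.Agent.Helper9.J2C.Abs

set_option autoImplicit false

/-! Helper9, S5403: an involution whose centralizer is the product of an extraspecial subgroup of order 32 and a
complement isomorphic to the alternating group of degree five acting faithfully: the generalized Fitting subgroup of the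
centralizer is the extraspecial subgroup. -/

namespace Cfsg.Agent.Helper9.JCo

open Cfsg Cfsg.Agent.Helper9.J2C

theorem cdata_struct {X : Type*} [Group X] [Finite X] {t : X} {Q H : Subgroup X} (h : CData t Q H)
    (hfaith : ∀ k ∈ H, ∀ q0 ∈ Q, (∀ q ∈ Q, (q0 * k) * q = q * (q0 * k)) → k = 1) :
    ∃ (Q' : Subgroup ↥(Subgroup.centralizer ({t} : Set X))) (_ : Q'.Normal),
      generalizedFittingSubgroup ↥(Subgroup.centralizer ({t} : Set X)) = Q' ∧ IsExtraspecial 2 Q' ∧
      Nat.card Q' = 2 ^ 5 ∧
      Nonempty (↥(Subgroup.centralizer ({t} : Set X)) ⧸ Q' ≃* ↥(alternatingGroup (Fin 5))) ∧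
      ∀ x : ↥(Subgroup.centralizer ({t} : Set X)), x ∈ Q' ↔ (x : X) ∈ Q := by
  classical
  let C : Subgroup X := Subgroup.centralizer ({t} : Set X)
  have hQC : Q ≤ C := fun q hq => Subgroup.mem_centralizer_singleton_iff.mpr (h.hQC q hq)
  have hHC : H ≤ C := fun q hq => Subgroup.mem_centralizer_singleton_iff.mpr (h.hHC q hq)
  let f : ↥Q × ↥H → ↥C := fun p => ⟨(p.1 : X) * (p.2 : X), C.mul_mem (hQC p.1.2) (hHC p.2.2)⟩
  have hf : Function.Injective f := by
    rintro ⟨a, b⟩ ⟨c, d⟩ hab
    have h1 : (a : X) * b = c * d := congrArg Subtype.val hab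
    have h2 : (c : X)⁻¹ * a = d * (b : X)⁻¹ := by
      rw [inv_mul_eq_iff_eq_mul, ← mul_assoc, ← h1, mul_inv_cancel_right]
    have h3 : (c : X)⁻¹ * a = 1 :=
      h.disj _ (Q.mul_mem (Q.inv_mem c.2) a.2) (h2 ▸ H.mul_mem d.2 (H.inv_mem b.2))
    have h4 : (d : X) * (b : X)⁻¹ = 1 := by rw [← h2, h3]
    apply Prod.ext
    · exact Subtype.ext (inv_mul_eq_one.mp h3).symm
    · exact Subtype.ext (mul_inv_eq_one.mp h4).symm
  have hbij : Function.Bijective f := hf.bijective_of_nat_card_le (by
    rw [Nat.card_prod, h.cardQ, h.cardH]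
    exact h.cardC)
  have hcard : Nat.card C = Nat.card Q * Nat.card H := by
    rw [← Nat.card_prod]
    exact (Nat.card_congr (Equiv.ofBijective f hbij)).symm
  obtain ⟨hnorm, ⟨e⟩⟩ := Cfsg.Agent.Helper9.Trio.split_structure C Q H hQC hHC h.norm h.disj hcard
  obtain ⟨eH⟩ := h.isoH
  have hcardQ' : Nat.card (Q.subgroupOf C) = 32 := by
    rw [Nat.card_congr (Subgroup.subgroupOfEquivOfLe hQC).toEquiv, h.cardQ]
  have hES : IsExtraspecial 2 (Q.subgroupOf C) := by
    apply Cfsg.Agent.Helper9.J3Z.extraspecial_of (Q.subgroupOf C) ⟨t, hQC h.tQ⟩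
    · exact Subgroup.mem_subgroupOf.mpr h.tQ
    · intro e1
      exact h.t1 (congrArg Subtype.val e1)
    · rw [hcardQ']
      norm_num
    · intro x hx y hy
      rcases h.comm x (Subgroup.mem_subgroupOf.mp hx) y (Subgroup.mem_subgroupOf.mp hy) with e1 | e1
      · left
        exact Subtype.ext e1
      · right
        exact Subtype.ext e1
    · intro x hx
      rcases h.sq x (Subgroup.mem_subgroupOf.mp hx) with e1 | e1
      · left
        exact Subtype.ext e1
      · right
        exact Subtype.ext e1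
    · intro x hx hall
      have : ∀ y ∈ Q, (x : X) * y = y * x := by
        intro y hy
        exact congrArg Subtype.val (hall ⟨y, hQC hy⟩ (Subgroup.mem_subgroupOf.mpr hy))
      rcases h.center x (Subgroup.mem_subgroupOf.mp hx) this with e1 | e1
      · left
        exact Subtype.ext e1
      · right
        exact Subtype.ext e1
    · intro y hy
      exact Subtype.ext (h.hQC y (Subgroup.mem_subgroupOf.mp hy))
  have hselfC : ∀ c : ↥C, (∀ r ∈ Q.subgroupOf C, c * r = r * c) → c ∈ Q.subgroupOf C := by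
    intro c hc
    obtain ⟨⟨q0, k⟩, rfl⟩ := hbij.2 c
    have hk : (k : X) = 1 := hfaith k k.2 q0 q0.2 (fun q hq =>
      congrArg Subtype.val (hc ⟨q, hQC hq⟩ (Subgroup.mem_subgroupOf.2 hq)))
    rw [Subgroup.mem_subgroupOf]
    show (q0 : X) * (k : X) ∈ Q
    rw [hk, mul_one]
    exact q0.2
  let iso : ↥C ⧸ Q.subgroupOf C ≃* ↥(alternatingGroup (Fin 5)) := e.trans eH
  have hΩs : IsSimpleGroup ↥(alternatingGroup (Fin 5)) := alternatingGroup.isSimpleGroup_five
  have hΩc : ¬ (Nat.card ↥(alternatingGroup (Fin 5))).Prime := by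
    rw [← Nat.card_congr eH.toEquiv, h.cardH]
    norm_num
  refine ⟨Q.subgroupOf C, hnorm, ?_, hES, by rw [hcardQ']; norm_num, ⟨iso⟩,
    fun x => Subgroup.mem_subgroupOf⟩
  apply le_antisymm
  · apply Cfsg.Agent.Helper2.generalizedFittingSubgroup_le_of_centralizer_le
    · have hFn : (Cfsg.fittingSubgroup ↥C).Normal := Cfsg.Agent.Helper1.fittingSubgroup_normal
      have hFnil : Group.IsNilpotent ↥(Cfsg.fittingSubgroup ↥C) :=
        Cfsg.Agent.Helper1.fittingSubgroup_isNilpotent
      let π : ↥C →* ↥(alternatingGroup (Fin 5)) :=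
        iso.toMonoidHom.comp (QuotientGroup.mk' (Q.subgroupOf C))
      have hπsurj : Function.Surjective π := by
        intro x
        obtain ⟨y, hy⟩ := iso.surjective x
        obtain ⟨c, rfl⟩ := QuotientGroup.mk'_surjective (Q.subgroupOf C) y
        exact ⟨c, hy⟩
      have hπker : π.ker = Q.subgroupOf C := by
        ext c
        rw [MonoidHom.mem_ker]
        show iso (QuotientGroup.mk' (Q.subgroupOf C) c) = 1 ↔ _
        rw [MulEquiv.map_eq_one_iff, QuotientGroup.mk'_apply, QuotientGroup.eq_one_iff]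
      have hmn : ((Cfsg.fittingSubgroup ↥C).map π).Normal := hFn.map π hπsurj
      rcases hΩs.eq_bot_or_eq_top_of_normal _ hmn with h' | h'
      · rw [← hπker]
        intro x hx
        rw [MonoidHom.mem_ker]
        have : π x ∈ (Cfsg.fittingSubgroup ↥C).map π := ⟨x, hx, rfl⟩
        rw [h', Subgroup.mem_bot] at this
        exact this
      · exfalso
        apply Cfsg.Agent.Helper9.MonsterType.not_nilpotent_of_simple hΩs hΩc
        have h1 : Function.Surjective (π.comp (Cfsg.fittingSubgroup ↥C).subtype) := by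
          intro g
          have hg : g ∈ (Cfsg.fittingSubgroup ↥C).map π := by
            rw [h']; exact Subgroup.mem_top _
          obtain ⟨x, hx, rfl⟩ := hg
          exact ⟨⟨x, hx⟩, rfl⟩
        exact Group.nilpotent_of_surjective _ h1
    · intro c hcc
      apply hselfC
      intro r hr
      exact (Subgroup.mem_centralizer_iff.mp hcc r hr).symm
  · have hnil : Group.IsNilpotent ↥(Q.subgroupOf C) := by
      have hp : IsPGroup 2 ↥(Q.subgroupOf C) := by
        apply IsPGroup.of_card (n := 5)
        rw [hcardQ']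
        norm_num
      exact hp.isNilpotent
    exact (Cfsg.Agent.Helper1.le_fittingSubgroup hnorm hnil).trans
      Cfsg.Agent.Helper2.fittingSubgroup_le_generalizedFittingSubgroup

end Cfsg.Agent.Helper9.JCo
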