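import Mathlib
import Cfsg.Agent.Helper9.JCo.CentA
import Cfsg.Agent.Helper9.J2C.Main
import Cfsg.Agent.Helper9.J2B.SimpleJ2
import Cfsg.Agent.S0824
import Cfsg.Agent.Helper1.SBD3B

set_option autoImplicit false

/-! Helper9, S5403: the Hall–Janko group (as the group of the tables) satisfies the hypothesis on the centralizer of an
involution. -/

noncomputable section

namespace Cfsg.Agent.Helper9.JCo

open Cfsg Cfsg.Agent.Helper9.OutG Cfsg.Agent.Helper9.J3 Cfsg.Agent.Helper9.J2O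
  Cfsg.Agent.Helper9.J2B Cfsg.Agent.Helper9.J2C

set_option maxRecDepth 1000000 in
theorem faith_idx : ∀ j < 60, j ≠ 0 → ∀ a < 32, ∃ i < 32, SQ.m a (cjF j i) ≠ SQ.m i a := by decide +kernel

/-- the complement acts faithfully, also modulo inner automorphisms. -/
theorem faith_X : ∀ k ∈ H0, ∀ q0 ∈ Q0, (∀ q ∈ Q0, (q0 * k) * q = q * (q0 * k)) → k = 1 := by
  intro k hk q0 hq0 hall
  obtain ⟨j, hj, rfl⟩ := mem_H0 hk
  obtain ⟨a, ha, rfl⟩ := mem_Q0 hq0
  by_cases hj0 : j = 0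
  · rw [hj0]
    exact wE_zero core SH_ok
  · exfalso
    obtain ⟨i, hi, hne⟩ := faith_idx j hj hj0 a ha
    have hb := andB_true (allB_true (allB_true norm_b hj) hi)
    have e : wE core SH j * wE core SQ i = wE core SQ (cjF j i) * wE core SH j :=
      eq_of_agreeL core card_GS (Comp.coe_mul core (comp_wE core SH j) (comp_wE core SQ i))
        (Comp.coe_mul core (comp_wE core SQ (cjF j i)) (comp_wE core SH j)) hb.2
    have h1 := hall _ ⟨i, hi, rfl⟩
    rw [mul_assoc, e, ← mul_assoc, ← mul_assoc, Q_elmul ha (ltB_true hb.1), Q_elmul hi ha] at h1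
    have h2 := mul_right_cancel h1
    exact hne (Q_elinj (Q_m_lt ha (ltB_true hb.1)) (Q_m_lt hi ha) h2)

set_option maxRecDepth 1000000 in
theorem cl_inQ : ∃ i < 11, ∃ k < 32, k ≠ 1 ∧ agreeL dC.bs (cF i) (wF dD SQ k) = true := by decide +kernel

/-- the involution is not weakly closed in the extraspecial subgroup. -/
theorem exists_conj_X : ∃ g : X, g * t0 * g⁻¹ ∈ Q0 ∧ g * t0 * g⁻¹ ≠ t0 := by
  obtain ⟨i, hi, k, hk, hk1, hag⟩ := cl_inQ
  have e : cG i = wE core SQ k := eq_of_agreeL core card_GS (comp_cG i) (comp_wE core SQ k) hag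
  refine ⟨gW core (nthW cwC i), ?_, ?_⟩
  · show cG i ∈ Q0
    rw [e]
    exact ⟨k, hk, rfl⟩
  · show cG i ≠ t0
    rw [e, t0_eq]
    intro h
    exact hk1 (Q_elinj hk (by norm_num) h)

theorem SQ_one_one : SQ.m 1 1 = 0 := by decide +kernel

theorem orderOf_t0 : orderOf t0 = 2 := by
  haveI : Fact (Nat.Prime 2) := ⟨Nat.prime_two⟩
  apply orderOf_eq_prime
  · rw [pow_two, t0_eq, Q_elmul (by norm_num) (by norm_num), SQ_one_one]
    exact Q_el_zero
  · exact t0_ne

/-- the alternating group of degree five is the commutator subgroup of the orthogonal group. -/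
theorem omegaIso : Nonempty (↥(alternatingGroup (Fin 5)) ≃*
    ↥(Cfsg.Omega (ZMod 2) (Cfsg.quadFormMinus 1 (ZMod 2) 1 1))) := by
  obtain ⟨e⟩ := Cfsg.Agent.S0824.result (F := ZMod 2) (by simp)
  have h5 : commutator (Equiv.Perm (Fin 5)) = alternatingGroup (Fin 5) :=
    alternatingGroup.commutator_perm_eq (by simp)
  exact ⟨((Cfsg.Agent.Helper1.SBD3.commEquiv e).trans (MulEquiv.subgroupCongr h5)).symm⟩

theorem X_simple : IsSimpleGroup X := by
  haveI := simpleJ2
  exact J2EquivGS.symm.isSimpleGroup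

theorem X_noncomm : ¬ IsMulCommutative X := by
  intro h
  obtain ⟨a, b, hab⟩ := noncommJ2
  apply hab
  apply J2EquivGS.injective
  rw [map_mul, map_mul]
  exact h.is_comm.comm _ _

theorem X_finite : Finite X := Nat.finite_of_card_ne_zero (by rw [card_GS]; decide)

/-- the hypothesis on the centralizer of an involution. -/
theorem X_struct : ∃ z : X, orderOf z = 2 ∧
    ∃ (Q : Subgroup (Subgroup.centralizer ({z} : Set X))) (_ : Q.Normal),
      Cfsg.generalizedFittingSubgroup (Subgroup.centralizer ({z} : Set X)) = Q ∧ Cfsg.IsExtraspecial 2 Q ∧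
      Nat.card Q = 2 ^ 5 ∧
      Nonempty ((Subgroup.centralizer ({z} : Set X)) ⧸ Q ≃*
        Cfsg.Omega (ZMod 2) (Cfsg.quadFormMinus 1 (ZMod 2) 1 1)) ∧
      ∃ g : X, (∃ hq : g * z * g⁻¹ ∈ Subgroup.centralizer ({z} : Set X),
        (⟨g * z * g⁻¹, hq⟩ : Subgroup.centralizer ({z} : Set X)) ∈ Q) ∧ g * z * g⁻¹ ≠ z := by
  haveI := X_finite
  obtain ⟨Q', hn, hF, hES, hc, ⟨iso⟩, hmem⟩ := cdata_struct cdata faith_X
  obtain ⟨eΩ⟩ := omegaIso
  refine ⟨t0, orderOf_t0, Q', hn, hF, hES, hc, ⟨iso.trans eΩ⟩, ?_⟩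
  obtain ⟨g, hg1, hg2⟩ := exists_conj_X
  refine ⟨g, ⟨Subgroup.mem_centralizer_singleton_iff.2 (Q0_comm_t0 _ hg1), ?_⟩, hg2⟩
  exact (hmem _).2 hg1

end Cfsg.Agent.Helper9.JCo

end
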