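import Mathlib

set_option autoImplicit false

/-! Helper9, S5403: data of the isometry from the icosian Leech lattice to the lattice of rank 24 given by the code:
rows of the matrix (16 times the isometry), 24 generators of the icosian lattice (integer coordinates), their
images, a dual basis, the frame. -/

namespace Cfsg.Agent.Helper9.JCo

/-- sixteen times the matrix of the isometry. -/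
def Rm : List (List ℤ) :=
  [[8, 0, -4, -4, -4, -12, 0, 0, 0, 0, 0, 0, 0, 0, 0, 0, 0, 0, 0, 0, 0, 0, 0, 0],
  [0, 8, -4, 12, 4, -4, 0, 0, 0, 0, 0, 0, 0, 0, 0, 0, 0, 0, 0, 0, 0, 0, 0, 0],
  [0, 8, -4, -4, -4, 4, -8, -8, 0, 0, 0, 0, 0, 0, 0, 0, 0, 0, 0, 0, 0, 0, 0, 0],
  [0, 8, -4, -4, -4, 4, 8, 8, 0, 0, 0, 0, 0, 0, 0, 0, 0, 0, 0, 0, 0, 0, 0, 0],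
  [0, 0, 0, 0, 0, 0, 0, 0, -4, 4, 0, 0, 0, -8, -4, -4, 0, 8, -4, -4, 4, 12, 0, 0],
  [0, 8, -4, -20, 4, -4, 0, 0, 0, 0, 0, 0, 0, 0, 0, 0, 0, 0, 0, 0, 0, 0, 0, 0],
  [0, 0, 0, 0, 0, 0, 0, 0, 4, 4, 0, -8, 0, 0, -4, 4, 0, 0, 4, 12, 4, 4, 0, 8],
  [0, 0, 0, 0, 0, 0, 0, 0, 0, 0, -4, 4, -4, -4, 0, 8, -4, -4, 0, -8, 0, 0, 4, 12],
  [0, 0, 0, 0, 0, 0, 0, 0, 4, 12, 0, 0, 0, -8, 4, 4, 0, -8, -4, -4, 4, -4, 0, 0],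
  [0, 0, 0, 0, 0, 0, 0, 0, -4, 4, 0, 0, 0, -8, -4, -4, 0, -8, 4, 4, -4, -12, 0, 0],
  [0, 0, 0, 0, 0, 0, 0, 0, 0, 8, 4, 4, -4, 4, 0, 0, -4, -12, 0, 0, 0, 8, -4, -4],
  [0, 0, 0, 0, 0, 0, 0, 0, 0, 0, 4, -4, 4, 4, 0, -8, -4, -4, 0, -8, 0, 0, 4, 12],
  [0, 0, 0, 0, 0, 0, 0, 0, -4, -4, 0, 8, 0, 0, 4, -4, 0, 0, 4, 12, 4, 4, 0, 8],
  [0, 0, 0, 0, 0, 0, 0, 0, 0, 0, -4, -12, -4, -4, 0, -8, -4, -4, 0, 8, 0, 0, 4, -4],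
  [0, 8, 4, 4, -4, -12, 0, 16, 0, 0, 0, 0, 0, 0, 0, 0, 0, 0, 0, 0, 0, 0, 0, 0],
  [0, 0, 0, 0, 0, 0, 0, 0, 0, 0, -4, -12, -4, -4, 0, -8, 4, 4, 0, -8, 0, 0, -4, 4],
  [0, 0, 0, 0, 0, 0, 0, 0, -4, -4, 0, -8, 0, 0, 4, 12, 0, 0, -4, 4, -4, -4, 0, 8],
  [0, -8, -4, -4, 4, 12, 0, 16, 0, 0, 0, 0, 0, 0, 0, 0, 0, 0, 0, 0, 0, 0, 0, 0],
  [0, 0, 0, 0, 0, 0, 0, 0, 0, -8, 4, 4, -4, -12, 0, 0, -4, 4, 0, 0, 0, -8, -4, -4],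
  [0, 0, 0, 0, 0, 0, 0, 0, 0, 8, -4, -4, 4, 12, 0, 0, -4, 4, 0, 0, 0, -8, -4, -4],
  [0, 0, 0, 0, 0, 0, 0, 0, -4, -4, 0, -8, 0, 0, 4, 12, 0, 0, 4, -4, 4, 4, 0, -8],
  [0, 0, 0, 0, 0, 0, 0, 0, -4, -12, 0, 0, 0, 8, -4, -4, 0, -8, -4, -4, 4, -4, 0, 0],
  [0, 0, 0, 0, 0, 0, 0, 0, 0, 8, 4, 4, -4, 4, 0, 0, 4, 12, 0, 0, 0, -8, 4, 4],
  [8, 16, 4, 4, 4, 12, 0, 0, 0, 0, 0, 0, 0, 0, 0, 0, 0, 0, 0, 0, 0, 0, 0, 0]]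

/-- generators `U_j G_k` of the icosian lattice, in integer coordinates. -/
def gensZ : List (List ℤ) :=
  [[8, 0, 0, 0, 0, 0, 0, 0, 0, 0, 0, 0, 0, 0, 0, 0, 0, 0, 0, 0, 0, 0, 0, 0],
  [0, 0, 8, 0, 0, 0, 0, 0, 0, 0, 0, 0, 0, 0, 0, 0, 0, 0, 0, 0, 0, 0, 0, 0],
  [-2, 2, 4, 0, -2, -2, 0, 0, 0, 0, 0, 0, 0, 0, 0, 0, 0, 0, 0, 0, 0, 0, 0, 0],
  [4, 0, 2, -2, 0, 0, 2, 2, 0, 0, 0, 0, 0, 0, 0, 0, 0, 0, 0, 0, 0, 0, 0, 0],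
  [-2, 2, 4, 0, 2, 2, 0, 0, 0, 0, 0, 0, 0, 0, 0, 0, 0, 0, 0, 0, 0, 0, 0, 0],
  [-4, 0, -2, 2, 0, 0, 2, 2, 0, 0, 0, 0, 0, 0, 0, 0, 0, 0, 0, 0, 0, 0, 0, 0],
  [-2, 2, 2, 2, 0, 0, 4, 0, 0, 0, 0, 0, 0, 0, 0, 0, 0, 0, 0, 0, 0, 0, 0, 0],
  [-2, -2, -2, 2, -4, 0, 0, 0, 0, 0, 0, 0, 0, 0, 0, 0, 0, 0, 0, 0, 0, 0, 0, 0],
  [-2, 0, -2, 0, 0, -2, 2, 0, 0, -2, 2, 0, 2, 0, 2, 0, 0, 0, 0, 0, 0, 0, 0, 0],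
  [2, 0, -2, 0, -2, 0, 0, -2, -2, 0, 0, -2, -2, 0, 2, 0, 0, 0, 0, 0, 0, 0, 0, 0],
  [-1, -1, -1, -1, -3, 1, -1, -1, -3, 1, -1, -1, 1, 1, 1, 1, 0, 0, 0, 0, 0, 0, 0, 0],
  [-1, -1, 1, 1, -1, -1, 3, -1, -1, -1, 3, -1, 1, 1, -1, -1, 0, 0, 0, 0, 0, 0, 0, 0],
  [4, 0, 0, 0, -4, 0, 0, 0, -4, 0, 0, 0, -4, 0, 0, 0, 0, 0, 0, 0, 0, 0, 0, 0],
  [0, 0, 4, 0, 0, 0, -4, 0, 0, 0, -4, 0, 0, 0, -4, 0, 0, 0, 0, 0, 0, 0, 0, 0],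
  [0, 0, 0, 0, -4, 0, -4, 0, -4, 0, -4, 0, 0, 0, 0, 0, 0, 0, 0, 0, 0, 0, 0, 0],
  [0, 0, 0, 0, 4, 0, -4, 0, 4, 0, -4, 0, 0, 0, 0, 0, 0, 0, 0, 0, 0, 0, 0, 0],
  [-1, -1, -1, -1, -1, -1, 1, 1, -1, 1, -1, 1, 1, -1, 1, -1, 4, 0, 0, 0, 0, 0, 0, 0],
  [1, 1, -1, -1, -1, -1, -1, -1, 1, -1, -1, 1, -1, 1, 1, -1, 0, 0, 4, 0, 0, 0, 0, 0],
  [-2, 0, -3, -1, 0, 0, -1, -1, 1, -1, 2, 0, -3, 1, 0, 0, -1, 1, 2, 0, -1, -1, 0, 0],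
  [-3, -1, 2, 0, -1, -1, 0, 0, 2, 0, -1, 1, 0, 0, 3, -1, 2, 0, 1, -1, 0, 0, 1, 1],
  [1, 1, 0, 0, -3, -1, 2, 0, 3, -1, 0, 0, -1, 1, -2, 0, -1, 1, 2, 0, 1, 1, 0, 0],
  [0, 0, 1, 1, -2, 0, -3, -1, 0, 0, 3, -1, 2, 0, -1, 1, -2, 0, -1, 1, 0, 0, 1, 1],
  [0, 0, -2, 0, -3, -1, -1, -1, 0, 0, 2, 0, -1, 1, -3, 1, -1, 1, 1, 1, 0, 0, 2, 0],
  [2, 0, 0, 0, 1, 1, -3, -1, -2, 0, 0, 0, 3, -1, -1, 1, -1, -1, -1, 1, -2, 0, 0, 0]]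

/-- the images of the generators. -/
def gensB : List (List ℤ) :=
  [[4, 0, 0, 0, 0, 0, 0, 0, 0, 0, 0, 0, 0, 0, 0, 0, 0, 0, 0, 0, 0, 0, 0, 4],
  [-2, -2, -2, -2, 0, -2, 0, 0, 0, 0, 0, 0, 0, 0, 2, 0, 0, -2, 0, 0, 0, 0, 0, 2],
  [0, 0, 0, 0, 0, 0, 0, 0, 0, 0, 0, 0, 0, 0, 4, 0, 0, -4, 0, 0, 0, 0, 0, 0],
  [2, -2, -2, 2, 0, 2, 0, 0, 0, 0, 0, 0, 0, 0, 2, 0, 0, 2, 0, 0, 0, 0, 0, 2],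
  [-4, 0, 0, 0, 0, 0, 0, 0, 0, 0, 0, 0, 0, 0, 0, 0, 0, 0, 0, 0, 0, 0, 0, 4],
  [-2, 2, -2, 2, 0, -2, 0, 0, 0, 0, 0, 0, 0, 0, 2, 0, 0, 2, 0, 0, 0, 0, 0, -2],
  [-2, 2, -2, 2, 0, -2, 0, 0, 0, 0, 0, 0, 0, 0, 2, 0, 0, -2, 0, 0, 0, 0, 0, 2],
  [0, 0, 0, 0, 0, -4, 0, 0, 0, 0, 0, 0, 0, 0, 0, 0, 0, 0, 0, 0, 0, 0, 0, -4],
  [1, 1, -1, 1, -1, 1, -1, -1, -1, -1, -1, 1, 1, -1, 1, -1, 1, -1, 1, -1, 1, 1, -1, -3],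
  [2, 0, 2, 0, 0, 0, 0, 0, 0, 0, 0, 0, 0, 2, -2, 2, 2, -2, 0, 0, 2, 0, 0, 0],
  [0, -2, 2, 0, 0, 0, 0, 0, 0, 0, 0, 0, 0, 0, -2, 0, 2, 0, -2, 2, 2, 0, 0, -2],
  [0, 0, -2, 0, 0, -2, 0, -2, -2, 0, 0, 2, 0, 0, 0, 0, 0, -2, 0, 0, 0, 2, 0, -2],
  [3, -1, 1, 1, 1, -1, -1, 1, -1, 1, 1, -1, 1, 1, 1, 1, 1, -1, 1, -1, 1, 1, 1, 1],
  [-1, -1, 1, -3, 1, -1, 1, 1, -1, 1, -1, -1, -1, 1, 1, 1, -1, -1, -1, 1, -1, 1, -1, 1],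
  [1, -1, 3, -1, 1, -1, -1, 1, -1, 1, -1, -1, 1, 1, 1, 1, 1, -1, -1, 1, 1, 1, -1, -1],
  [-1, 1, 1, -3, -1, 1, 1, 1, 1, -1, -1, -1, -1, 1, -1, 1, -1, 1, -1, 1, -1, -1, -1, 1],
  [1, -1, -1, 1, 1, 1, -1, -1, 1, 1, -1, -1, 1, -1, 1, 1, -1, 1, -1, -1, -1, -1, 1, -3],
  [2, 0, 2, 0, -2, 2, 0, 0, -2, 0, 0, 0, 2, 0, 0, 0, -2, -2, 0, 0, 0, 0, 0, 0],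
  [0, 0, 2, 0, -2, 2, 0, 0, -2, 0, 0, 0, 0, 0, -2, 0, 0, 0, 2, 0, 0, 0, 2, -2],
  [-1, -1, -1, -1, -1, -1, -1, 1, 1, -1, -1, 1, 1, -1, 1, 1, -1, -1, -1, -1, -1, -1, 1, -3],
  [2, 0, 0, 2, 0, 0, 2, 0, -2, -2, 0, 0, 0, 0, 2, 0, -2, -2, 0, 0, 0, 0, 0, 0],
  [0, 0, 2, -2, 0, -2, 2, 0, 0, 0, 0, 2, 0, 0, 0, -2, 2, -2, 0, 0, 0, 0, 0, 0],
  [2, 0, 2, 0, 0, 0, 2, 0, -2, 0, 0, 0, 0, 0, 0, -2, 0, -2, 0, 0, 0, 0, 2, -2],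
  [0, 0, 2, -2, 0, 0, 0, 0, 0, 2, 0, 0, 0, 0, -2, -2, 2, 0, 0, 0, 0, 0, -2, 2]]

/-- the dual basis (divided by eight) of `gensB`, vectors of the lattice. -/
def dualD : List (List ℤ) :=
  [[1, 1, 1, -1, -1, -1, -1, -1, -1, 1, -1, 1, -3, -3, 1, 1, -1, 1, -1, -1, 3, -1, 1, 1],
  [0, 0, -2, -2, 2, 0, 0, 0, -2, 0, 0, 0, 2, 0, 0, 0, 0, 0, 2, 2, 2, -4, 0, 0],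
  [0, 0, 2, 0, -2, 0, -2, -2, 0, 0, 2, 0, -4, 0, 2, 0, 0, 0, -2, -2, 0, 0, 0, 0],
  [0, -2, 0, 2, -2, 0, 0, 0, 2, 0, -2, 0, 0, 4, 0, -2, 0, 0, 0, 0, -2, 2, 0, 0],
  [-1, -1, 3, 1, -3, -1, -1, -3, 1, -1, -1, -1, -3, 1, 1, -1, -1, 1, -3, -5, 1, 3, 1, 1],
  [0, 2, 0, -2, 0, 0, 0, 0, -4, 2, 2, 2, -2, -2, 2, 2, 0, 2, -2, -2, 4, -4, 0, 0],
  [0, 0, -2, 2, 0, 0, 2, 2, 2, 0, -2, -2, 4, 0, -2, 0, 2, -2, 2, 4, -4, 2, 0, 0],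
  [0, -2, 2, 2, -4, -2, 0, -2, 4, 0, -2, -2, -2, 2, 0, -2, -2, 0, 0, -2, 0, 4, 0, 0],
  [0, 0, 0, 0, -2, 0, 2, 0, 2, 0, -2, -2, 0, -2, 0, 0, 0, 0, 0, -2, 2, 4, 0, 0],
  [0, 0, 0, 0, 0, 0, 0, 0, 0, 2, -2, 2, -2, 2, 0, 0, -2, 0, 0, -2, 4, -2, 0, 0],
  [0, 0, 0, 0, -2, 0, 2, 0, 0, 0, 2, -2, 0, -4, 0, 2, 2, 0, -2, 0, 0, 2, 0, 0],
  [0, 0, 0, 0, 0, 0, -2, -2, -2, -2, 2, 0, 0, 2, 0, 0, 2, 0, -2, 0, -4, 0, 0, 0],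
  [0, 0, 0, 0, -2, 0, 2, 0, 0, -2, 4, -4, 2, -2, 0, 2, 4, 0, -2, -2, -4, 4, 0, 0],
  [0, 0, 0, 0, -2, 0, 4, 2, 2, 4, -2, 0, -2, -4, 0, 2, -2, 0, 0, -2, 4, 4, 0, 0],
  [0, 0, 0, 0, 4, 0, -4, 0, -2, -2, -2, 2, 2, 4, 0, -2, 0, 0, 2, 4, -2, -4, 0, 0],
  [0, 0, 0, 0, -2, 0, 0, -2, 0, -4, 2, -4, 2, 2, 0, 0, 4, 0, -2, 0, -6, 2, 0, 0],
  [0, 0, 0, 0, 0, 0, 2, -2, 0, 0, 0, -2, 2, -2, 0, 2, 2, 0, 0, 0, -2, 0, 0, 0],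
  [0, 0, 0, 0, -2, 0, 2, 0, 2, 2, 0, 0, 2, 0, 0, 0, -2, 0, 0, 0, 2, 2, 0, 0],
  [0, 0, 0, 0, 0, 0, 0, 0, -2, 0, 0, 0, 0, -2, 0, 2, 2, 0, 2, 2, -2, -2, 0, 0],
  [0, 0, 0, 0, 0, 0, -2, 2, -2, 0, 0, 2, -2, 0, 0, 0, 0, 0, -2, -2, 0, -2, 0, 0],
  [0, 0, 0, 0, 2, 0, 0, 0, -4, -2, 2, 0, 0, -2, 0, 2, 2, 0, 0, 0, -2, -4, -2, 0],
  [0, 0, 0, 0, 0, 0, 4, 0, 2, 0, 0, 0, 4, -2, 0, 2, 2, 0, 2, 2, -2, 2, 0, 0],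
  [0, 0, 0, 0, 0, 0, -2, 0, 0, 0, -2, 0, -2, 4, 0, -4, -2, 0, -2, -2, 2, 0, 2, 0],
  [0, 0, 0, 0, 0, 0, -2, 0, -4, 0, 2, 0, -2, 0, 0, 0, 2, 0, -2, -2, -2, -4, -2, 0]]

/-- the frame: the vectors of the icosian lattice mapped to the vectors with one coordinate eight. -/
def frameF : List (List ℤ) :=
  [[10, -2, -4, 0, -2, -2, 0, 0, 0, 0, 0, 0, 0, 0, 0, 0, 0, 0, 0, 0, 0, 0, 0, 0],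
  [-2, 2, -8, 4, 6, -2, 0, 0, 0, 0, 0, 0, 0, 0, 0, 0, 0, 0, 0, 0, 0, 0, 0, 0],
  [-2, 2, -4, 0, -6, 2, -8, 0, 0, 0, 0, 0, 0, 0, 0, 0, 0, 0, 0, 0, 0, 0, 0, 0],
  [-2, 2, -4, 0, -6, 2, 8, 0, 0, 0, 0, 0, 0, 0, 0, 0, 0, 0, 0, 0, 0, 0, 0, 0],
  [0, 0, 0, 0, 0, 0, 0, 0, -6, 2, 0, 0, 2, -2, -4, 0, -2, 2, -4, 0, 2, 2, 0, 0],
  [-2, 2, 0, -4, 6, -2, 0, 0, 0, 0, 0, 0, 0, 0, 0, 0, 0, 0, 0, 0, 0, 0, 0, 0],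
  [0, 0, 0, 0, 0, 0, 0, 0, 4, 0, 2, -2, 0, 0, -6, 2, 0, 0, 2, 2, 4, 0, -2, 2],
  [0, 0, 0, 0, 0, 0, 0, 0, 0, 0, -6, 2, -4, 0, -2, 2, -4, 0, 2, -2, 0, 0, 2, 2],
  [0, 0, 0, 0, 0, 0, 0, 0, 2, 2, 0, 0, 2, -2, 4, 0, 2, -2, -4, 0, 6, -2, 0, 0],
  [0, 0, 0, 0, 0, 0, 0, 0, -6, 2, 0, 0, 2, -2, -4, 0, 2, -2, 4, 0, -2, -2, 0, 0],
  [0, 0, 0, 0, 0, 0, 0, 0, -2, 2, 4, 0, -6, 2, 0, 0, -2, -2, 0, 0, -2, 2, -4, 0],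
  [0, 0, 0, 0, 0, 0, 0, 0, 0, 0, 6, -2, 4, 0, 2, -2, -4, 0, 2, -2, 0, 0, 2, 2],
  [0, 0, 0, 0, 0, 0, 0, 0, -4, 0, -2, 2, 0, 0, 6, -2, 0, 0, 2, 2, 4, 0, -2, 2],
  [0, 0, 0, 0, 0, 0, 0, 0, 0, 0, -2, -2, -4, 0, 2, -2, -4, 0, -2, 2, 0, 0, 6, -2],
  [-2, 2, 4, 0, -2, -2, -4, 4, 0, 0, 0, 0, 0, 0, 0, 0, 0, 0, 0, 0, 0, 0, 0, 0],
  [0, 0, 0, 0, 0, 0, 0, 0, 0, 0, -2, -2, -4, 0, 2, -2, 4, 0, 2, -2, 0, 0, -6, 2],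
  [0, 0, 0, 0, 0, 0, 0, 0, -4, 0, 2, -2, 0, 0, 2, 2, 0, 0, -6, 2, -4, 0, -2, 2],
  [2, -2, -4, 0, 2, 2, -4, 4, 0, 0, 0, 0, 0, 0, 0, 0, 0, 0, 0, 0, 0, 0, 0, 0],
  [0, 0, 0, 0, 0, 0, 0, 0, 2, -2, 4, 0, -2, -2, 0, 0, -6, 2, 0, 0, 2, -2, -4, 0],
  [0, 0, 0, 0, 0, 0, 0, 0, -2, 2, -4, 0, 2, 2, 0, 0, -6, 2, 0, 0, 2, -2, -4, 0],
  [0, 0, 0, 0, 0, 0, 0, 0, -4, 0, 2, -2, 0, 0, 2, 2, 0, 0, 6, -2, 4, 0, 2, -2],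
  [0, 0, 0, 0, 0, 0, 0, 0, -2, -2, 0, 0, -2, 2, -4, 0, 2, -2, -4, 0, 6, -2, 0, 0],
  [0, 0, 0, 0, 0, 0, 0, 0, -2, 2, 4, 0, -6, 2, 0, 0, 2, 2, 0, 0, 2, -2, 4, 0],
  [6, 2, 4, 0, 2, 2, 0, 0, 0, 0, 0, 0, 0, 0, 0, 0, 0, 0, 0, 0, 0, 0, 0, 0]]

end Cfsg.Agent.Helper9.JCo
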