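import Mathlib
import Cfsg.Agent.Helper9.J2B.Base
import Cfsg.Agent.Helper9.LeechAct.Lin
import Cfsg.Agent.Helper9.Leech.Basic
import Cfsg.Agent.Helper9.JCo.Data

set_option autoImplicit false

/-! Helper9, S5403: coordinates of the icosian Leech lattice as integer functions on the 24 points, the additive map to
triples of quaternions, and a test of membership of a list of integers in the lattice of rank 24. -/

namespace Cfsg.Agent.Helper9.JCo

open Cfsg Cfsg.Spor Quaternion
open Cfsg.Agent.Helper9.J2B Cfsg.Agent.Helper9.Golay Cfsg.Agent.Helper9.Leech Cfsg.Agent.Helper9.LeechAct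

/-- the list of the 24 integer coordinates. -/
def flL (V : Z24) : List ℤ :=
  [V.x.a0, V.x.a1, V.x.a2, V.x.a3, V.x.a4, V.x.a5, V.x.a6, V.x.a7,
   V.y.a0, V.y.a1, V.y.a2, V.y.a3, V.y.a4, V.y.a5, V.y.a6, V.y.a7,
   V.z.a0, V.z.a1, V.z.a2, V.z.a3, V.z.a4, V.z.a5, V.z.a6, V.z.a7]

theorem flL_length (V : Z24) : (flL V).length = 24 := rfl

/-- three quaternions in integer coordinates from a function on the 24 points. -/
def unfl (f : GolayPt → ℤ) : Z24 :=
  ⟨⟨f (mkPt 0), f (mkPt 1), f (mkPt 2), f (mkPt 3), f (mkPt 4), f (mkPt 5), f (mkPt 6), f (mkPt 7)⟩,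
   ⟨f (mkPt 8), f (mkPt 9), f (mkPt 10), f (mkPt 11), f (mkPt 12), f (mkPt 13), f (mkPt 14), f (mkPt 15)⟩,
   ⟨f (mkPt 16), f (mkPt 17), f (mkPt 18), f (mkPt 19), f (mkPt 20), f (mkPt 21), f (mkPt 22), f (mkPt 23)⟩⟩

theorem unfl_toVec (V : Z24) : unfl (toVec (flL V)) = V := by
  ext <;> rfl

theorem toVec_unfl (f : GolayPt → ℤ) : toVec (flL (unfl f)) = f := by
  funext p
  rw [← mkPt_ptIdx p]
  have h := ptIdx_lt p
  generalize ptIdx p = k at h
  interval_cases k <;> rfl

/-- of a list. -/
def unflL (l : List ℤ) : Z24 := unfl (toVec l)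

theorem unfl_add (f g : GolayPt → ℤ) : unfl (f + g) =
    ⟨Z8.add (unfl f).x (unfl g).x, Z8.add (unfl f).y (unfl g).y, Z8.add (unfl f).z (unfl g).z⟩ := rfl

/-- the additive map from integer coordinates to triples of quaternions. -/
noncomputable def PhiHom : (GolayPt → ℤ) →+ (Fin 3 → ℍ[ℝ]) where
  toFun f := phi3 (unfl f)
  map_zero' := by
    funext t
    fin_cases t <;> exact phi_zero
  map_add' f g := by
    rw [unfl_add]
    funext t
    fin_cases t <;> exact phi_add _ _

theorem PhiHom_apply (f : GolayPt → ℤ) : PhiHom f = phi3 (unfl f) := rfl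

theorem PhiHom_toVec (V : Z24) : PhiHom (toVec (flL V)) = phi3 V := by
  rw [PhiHom_apply, unfl_toVec]

theorem PhiHom_injective : Function.Injective PhiHom := by
  intro f g h
  have := phi3_injective h
  rw [← toVec_unfl f, ← toVec_unfl g, this]

/-! ### the test of membership -/

/-- the mask of the coordinates congruent to `k` modulo four. -/
def maskOf (l : List ℤ) (k : ℤ) : ℕ := Nat.ofBits (fun i : Fin 24 => decide ((l.getD i.val 0 - k) % 4 = 0))

/-- the test. -/
def leechOK (l : List ℤ) : Bool :=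
  l.length == 24 && (List.range 24).all (fun i => (l.getD i 0 - l.getD 0 0) % 2 == 0) &&
    (l.sum - 4 * l.getD 0 0) % 8 == 0 &&
    [(0 : ℤ), 1, 2, 3].all (fun k => codeList.contains (maskOf l k))

theorem encW_resW (l : List ℤ) (k : ℤ) : encW (resW (toVec l) k) = maskOf l (k % 4) := by
  unfold encW maskOf
  congr 1
  funext i
  have h1 : toVec l (idxPt i) = l.getD i.val 0 := by
    unfold toVec
    rw [ptIdx_idxPt]
  have key : (resW (toVec l) k (idxPt i) ≠ 0) ↔ ((l.getD i.val 0 - k % 4) % 4 = 0) := by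
    unfold resW
    rw [h1]
    by_cases h : l.getD i.val 0 ≡ k [ZMOD 4]
    · rw [if_pos h]
      have h2 : (l.getD i.val 0 - k % 4) % 4 = 0 := by
        have := h
        unfold Int.ModEq at this
        omega
      exact ⟨fun _ => h2, fun _ => one_ne_zero⟩
    · rw [if_neg h]
      have h2 : ¬ (l.getD i.val 0 - k % 4) % 4 = 0 := by
        intro h3
        apply h
        unfold Int.ModEq
        omega
      exact ⟨fun hh => absurd rfl hh, fun hh => absurd hh h2⟩
  exact decide_eq_decide.2 key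

theorem mem_leechSet_of_ok (l : List ℤ) (h : leechOK l = true) : toVec l ∈ leechSet := by
  unfold leechOK at h
  simp only [Bool.and_eq_true, beq_iff_eq, List.all_eq_true, List.mem_range, List.contains_iff_mem] at h
  obtain ⟨⟨⟨hlen, hpar⟩, hsum⟩, hcode⟩ := h
  rw [mem_leechSet_iff]
  refine ⟨l.getD 0 0, ?_, ?_, ?_⟩
  · intro p
    have := hpar (ptIdx p) (ptIdx_lt p)
    unfold Int.ModEq toVec
    omega
  · rw [sum_univ_eq, pts_map_toVec l hlen]
    unfold Int.ModEq
    omega
  · intro k
    rw [mem_golayCode_iff, encW_resW]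
    have hk : k % 4 = 0 ∨ k % 4 = 1 ∨ k % 4 = 2 ∨ k % 4 = 3 := by omega
    rcases hk with hk | hk | hk | hk <;> rw [hk] <;> apply hcode <;> simp

theorem mem_leechLattice_of_ok (l : List ℤ) (h : leechOK l = true) : toVec l ∈ leechLattice :=
  (mem_leechLattice_iff _).2 (mem_leechSet_of_ok l h)

end Cfsg.Agent.Helper9.JCo
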