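import Mathlib
import Cfsg.Agent.Helper9.JCo.Lin
import Cfsg.Agent.Helper9.J2B.LamMod

set_option autoImplicit false

/-! Helper9, S5403: sixteen times the isometry as an additive map on integer coordinates; it maps the coordinates of
the icosian Leech lattice into sixteen times the lattice of rank 24. -/

namespace Cfsg.Agent.Helper9.JCo

open Cfsg Cfsg.Spor Quaternion
open Cfsg.Agent.Helper9.J2B Cfsg.Agent.Helper9.Golay Cfsg.Agent.Helper9.Leech Cfsg.Agent.Helper9.LeechAct

/-- a row of the matrix. -/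
def rowR (p : GolayPt) : List ℤ := Rm.getD (ptIdx p) []

theorem Rm_rows : ∀ i < 24, (Rm.getD i []).length = 24 := by decide

theorem rowR_length (p : GolayPt) : (rowR p).length = 24 := Rm_rows _ (ptIdx_lt p)

/-- sixteen times the isometry, on all integer functions. -/
def RHom : (GolayPt → ℤ) →+ (GolayPt → ℤ) where
  toFun f := fun p => ∑ q, toVec (rowR p) q * f q
  map_zero' := by
    funext p
    simp
  map_add' f g := by
    funext p
    simp [mul_add, Finset.sum_add_distrib]

theorem RHom_apply (f : GolayPt → ℤ) (p : GolayPt) : RHom f p = ∑ q, toVec (rowR p) q * f q := rfl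

/-- the product of the matrix and a list. -/
def mvecL (l : List ℤ) : List ℤ := Rm.map (fun r => dotL r l)

theorem dotL_nil (l : List ℤ) : dotL [] l = 0 := rfl

theorem RHom_toVec (l : List ℤ) (hl : l.length = 24) : RHom (toVec l) = toVec (mvecL l) := by
  funext p
  rw [RHom_apply, sum_toVec_mul _ _ (rowR_length p) hl]
  unfold toVec mvecL rowR
  have := List.getD_map (f := fun r => dotL r l) (l := Rm) (n := ptIdx p) (d := [])
  rw [dotL_nil] at this
  rw [this]

theorem toVec_map_mul (c : ℤ) (l : List ℤ) : toVec (l.map (fun b => c * b)) = c • toVec l := by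
  funext p
  unfold toVec
  have := List.getD_map (f := fun b => c * b) (l := l) (n := ptIdx p) (d := 0)
  rw [mul_zero] at this
  rw [this]
  simp

/-- the generators, and their images, as functions. -/
def genF (i : ℕ) : GolayPt → ℤ := toVec (gensZ.getD i [])

def genBF (i : ℕ) : GolayPt → ℤ := toVec (gensB.getD i [])

theorem gens_chk : (List.range 24).all (fun i => (gensZ.getD i []).length == 24 &&
    mvecL (gensZ.getD i []) == (gensB.getD i []).map (fun b => 16 * b) &&
    leechOK (gensB.getD i [])) = true := by decide +kernel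

theorem gens_chk' {i : ℕ} (hi : i < 24) : (gensZ.getD i []).length = 24 ∧
    mvecL (gensZ.getD i []) = (gensB.getD i []).map (fun b => 16 * b) ∧ leechOK (gensB.getD i []) = true := by
  have := gens_chk
  rw [List.all_eq_true] at this
  have h := this i (List.mem_range.2 hi)
  simp only [Bool.and_eq_true, beq_iff_eq] at h
  exact ⟨h.1.1, h.1.2, h.2⟩

theorem RHom_genF {i : ℕ} (hi : i < 24) : RHom (genF i) = (16 : ℤ) • genBF i := by
  unfold genF genBF
  rw [RHom_toVec _ (gens_chk' hi).1, (gens_chk' hi).2.1, toVec_map_mul]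

theorem genBF_mem {i : ℕ} (hi : i < 24) : genBF i ∈ leechLattice :=
  mem_leechLattice_of_ok _ (gens_chk' hi).2.2

/-- the functions mapped into sixteen times the lattice. -/
def KK : AddSubgroup (GolayPt → ℤ) where
  carrier := {f | ∃ y ∈ leechLattice, RHom f = (16 : ℤ) • y}
  zero_mem' := ⟨0, leechLattice.zero_mem, by simp⟩
  add_mem' := by
    rintro f g ⟨y, hy, e⟩ ⟨z, hz, e'⟩
    exact ⟨y + z, leechLattice.add_mem hy hz, by rw [map_add, e, e', smul_add]⟩
  neg_mem' := by
    rintro f ⟨y, hy, e⟩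
    exact ⟨-y, leechLattice.neg_mem hy, by rw [map_neg, e, smul_neg]⟩

theorem mem_KK (f : GolayPt → ℤ) : f ∈ KK ↔ ∃ y ∈ leechLattice, RHom f = (16 : ℤ) • y := Iff.rfl

theorem genF_mem_KK {i : ℕ} (hi : i < 24) : genF i ∈ KK := ⟨genBF i, genBF_mem hi, RHom_genF hi⟩

/-- the units and the three vectors. -/
def UL : List Z8 := [U0, U1, U2, U3, U4, U5, U6, U7]

def GV : List Z24 := [G1, G2, G3]

theorem gens_prod : ∀ k < 3, ∀ j < 8,
    Z8.mul (UL.getD j U0) (GV.getD k G1).x = Z8.sm 4 (unflL (gensZ.getD (8 * k + j) [])).x ∧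
    Z8.mul (UL.getD j U0) (GV.getD k G1).y = Z8.sm 4 (unflL (gensZ.getD (8 * k + j) [])).y ∧
    Z8.mul (UL.getD j U0) (GV.getD k G1).z = Z8.sm 4 (unflL (gensZ.getD (8 * k + j) [])).z := by
  decide

theorem PhiHom_genF {k j : ℕ} (hk : k < 3) (hj : j < 8) :
    PhiHom (genF (8 * k + j)) = lmul (phi (UL.getD j U0)) (phi3 (GV.getD k G1)) := by
  obtain ⟨h1, h2, h3⟩ := gens_prod k hk j hj
  rw [PhiHom_apply]
  funext t
  fin_cases t
  · exact (phi_mul_of _ _ _ h1).symm
  · exact (phi_mul_of _ _ _ h2).symm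
  · exact (phi_mul_of _ _ _ h3).symm

theorem lmul_add_left (a b : ℍ[ℝ]) (x : Fin 3 → ℍ[ℝ]) : lmul (a + b) x = lmul a x + lmul b x := by
  funext t
  simp only [lmul_apply, Pi.add_apply, add_mul]

theorem lmul_smul_left (c : ℝ) (a : ℍ[ℝ]) (x : Fin 3 → ℍ[ℝ]) : lmul (c • a) x = c • lmul a x := by
  funext t
  simp only [lmul_apply, Pi.smul_apply, smul_mul_assoc]

/-- the multiples of one of the three vectors. -/
theorem block {k : ℕ} (hk : k < 3) (a : ℍ[ℝ]) (ha : a ∈ icosians) :
    ∃ h ∈ KK, PhiHom h = lmul a (phi3 (GV.getD k G1)) := by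
  obtain ⟨X, hX, rfl⟩ := (mem_icosians_iff a).1 ha
  obtain ⟨c0, c1, c2, c3, c4, c5, c6, c7, rfl⟩ := inL_lin X hX
  refine ⟨c0 • genF (8 * k + 0) + c1 • genF (8 * k + 1) + c2 • genF (8 * k + 2) + c3 • genF (8 * k + 3) +
    c4 • genF (8 * k + 4) + c5 • genF (8 * k + 5) + c6 • genF (8 * k + 6) + c7 • genF (8 * k + 7), ?_, ?_⟩
  · have hm : ∀ j < 8, genF (8 * k + j) ∈ KK := fun j hj => genF_mem_KK (by omega)
    exact KK.add_mem (KK.add_mem (KK.add_mem (KK.add_mem (KK.add_mem (KK.add_mem (KK.add_mem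
      (KK.zsmul_mem (hm 0 (by norm_num)) _) (KK.zsmul_mem (hm 1 (by norm_num)) _))
      (KK.zsmul_mem (hm 2 (by norm_num)) _)) (KK.zsmul_mem (hm 3 (by norm_num)) _))
      (KK.zsmul_mem (hm 4 (by norm_num)) _)) (KK.zsmul_mem (hm 5 (by norm_num)) _))
      (KK.zsmul_mem (hm 6 (by norm_num)) _)) (KK.zsmul_mem (hm 7 (by norm_num)) _)
  · simp only [map_add, map_zsmul]
    rw [PhiHom_genF hk (by norm_num : 0 < 8), PhiHom_genF hk (by norm_num : 1 < 8),
      PhiHom_genF hk (by norm_num : 2 < 8), PhiHom_genF hk (by norm_num : 3 < 8),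
      PhiHom_genF hk (by norm_num : 4 < 8), PhiHom_genF hk (by norm_num : 5 < 8),
      PhiHom_genF hk (by norm_num : 6 < 8), PhiHom_genF hk (by norm_num : 7 < 8), phi_linU]
    simp only [lmul_add_left, lmul_smul_left, UL, List.getD_cons_zero, List.getD_cons_succ,
      ← Int.cast_smul_eq_zsmul ℝ]

/-- the coordinates of the icosian Leech lattice are mapped into sixteen times the lattice. -/
theorem mem_KK_of_mem (f : GolayPt → ℤ) (hf : PhiHom f ∈ icoLeech) : f ∈ KK := by
  obtain ⟨a1, a2, a3, ha1, ha2, ha3, e⟩ := decomp _ hf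
  obtain ⟨h1, hk1, e1⟩ := block (k := 0) (by norm_num) a1 ha1
  obtain ⟨h2, hk2, e2⟩ := block (k := 1) (by norm_num) a2 ha2
  obtain ⟨h3, hk3, e3⟩ := block (k := 2) (by norm_num) a3 ha3
  have : f = h1 + h2 + h3 := by
    apply PhiHom_injective
    rw [map_add, map_add, e1, e2, e3, e]
    rfl
  rw [this]
  exact KK.add_mem (KK.add_mem hk1 hk2) hk3

end Cfsg.Agent.Helper9.JCo
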