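import Mathlib
import Cfsg.Agent.Helper9.JCo.Iso1
import Cfsg.Agent.Helper9.J2B.Order
import Cfsg.Agent.Helper9.Leech.QuadForm

set_option autoImplicit false

/-! Helper9, S5403: the isometry on the coordinates of the icosian Leech lattice: values in the lattice of rank 24,
additive, norm, injective, surjective. -/

namespace Cfsg.Agent.Helper9.JCo

open Cfsg Cfsg.Spor Quaternion
open Cfsg.Agent.Helper9.J2B Cfsg.Agent.Helper9.Golay Cfsg.Agent.Helper9.Leech Cfsg.Agent.Helper9.LeechAct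

/-- the coordinates of the vectors of the icosian Leech lattice. -/
def LI : AddSubgroup (GolayPt → ℤ) where
  carrier := {f | PhiHom f ∈ icoLeech}
  zero_mem' := by
    show PhiHom 0 ∈ icoLeech
    rw [map_zero]
    have h := icoLeech_sub _ _ G1_mem G1_mem
    rwa [sub_self] at h
  add_mem' := by
    intro f g hf hg
    show PhiHom (f + g) ∈ icoLeech
    rw [map_add]
    have h := icoLeech_sub _ _ hf (neg_memL _ hg)
    rwa [sub_neg_eq_add] at h
  neg_mem' := by
    intro f hf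
    show PhiHom (-f) ∈ icoLeech
    rw [map_neg]
    exact neg_memL _ hf

theorem mem_LI (f : GolayPt → ℤ) : f ∈ LI ↔ PhiHom f ∈ icoLeech := Iff.rfl

theorem toVec_mem_LI (V : Z24) (h : inLam V) : toVec (flL V) ∈ LI := by
  rw [mem_LI, PhiHom_toVec]
  exact phi3_mem V h

theorem inLam_of_mem_LI (f : GolayPt → ℤ) (h : f ∈ LI) : inLam (unfl f) := by
  obtain ⟨V, hV, e⟩ := (mem_icoLeech_iff _).1 h
  rw [PhiHom_apply] at e
  rw [phi3_injective e]
  exact hV

/-- the isometry on integer coordinates. -/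
def iotaF (f : GolayPt → ℤ) : GolayPt → ℤ := fun p => RHom f p / 16

theorem iotaF_spec {f : GolayPt → ℤ} (hf : f ∈ LI) : iotaF f ∈ leechLattice ∧ RHom f = (16 : ℤ) • iotaF f := by
  obtain ⟨y, hy, e⟩ := mem_KK_of_mem f hf
  have : iotaF f = y := by
    funext p
    unfold iotaF
    rw [e]
    simp
  rw [this]
  exact ⟨hy, e⟩

theorem smul16_inj {y z : GolayPt → ℤ} (h : (16 : ℤ) • y = (16 : ℤ) • z) : y = z := by
  funext p
  have := congrFun h p
  simp only [Pi.smul_apply, smul_eq_mul] at this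
  omega

theorem iotaF_add {f g : GolayPt → ℤ} (hf : f ∈ LI) (hg : g ∈ LI) : iotaF (f + g) = iotaF f + iotaF g := by
  apply smul16_inj
  rw [smul_add, ← (iotaF_spec hf).2, ← (iotaF_spec hg).2, ← (iotaF_spec (LI.add_mem hf hg)).2, map_add]

theorem iotaF_neg {f : GolayPt → ℤ} (hf : f ∈ LI) : iotaF (-f) = -iotaF f := by
  apply smul16_inj
  rw [smul_neg, ← (iotaF_spec hf).2, ← (iotaF_spec (LI.neg_mem hf)).2, map_neg]

theorem iotaF_sub {f g : GolayPt → ℤ} (hf : f ∈ LI) (hg : g ∈ LI) : iotaF (f - g) = iotaF f - iotaF g := by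
  rw [sub_eq_add_neg, iotaF_add hf (LI.neg_mem hg), iotaF_neg hg, sub_eq_add_neg]

/-! ### the norm -/

/-- sixteen times the Euclidean norm, in integer coordinates. -/
def nEZ (V : Z24) : ℤ := nrm8 V.x + nrm8 V.y + nrm8 V.z + 2 * (pq8 V.x + pq8 V.y + pq8 V.z)

theorem sqNorm_toVec (m : List ℤ) (hm : m.length = 24) : sqNorm (toVec m) = (m.map (fun a => a ^ 2)).sum := by
  unfold sqNorm
  rw [sum_univ_eq]
  have : pts.map (fun p => toVec m p ^ 2) = (pts.map (toVec m)).map (fun a => a ^ 2) := by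
    rw [List.map_map]; rfl
  rw [this, pts_map_toVec m hm]

set_option maxHeartbeats 4000000 in
theorem norm_id (V : Z24) : ((mvecL (flL V)).map (fun a => a ^ 2)).sum = 128 * nEZ V := by
  simp only [mvecL, Rm, flL, dotL, List.map_cons, List.map_nil, List.zipWith_cons_cons, List.zipWith_nil_right,
    List.sum_cons, List.sum_nil, nEZ, nrm8, pq8]
  ring

theorem mvecL_length (l : List ℤ) : (mvecL l).length = 24 := by
  unfold mvecL
  rw [List.length_map]
  rfl

theorem sqNorm_RHom (f : GolayPt → ℤ) : sqNorm (RHom f) = 128 * nEZ (unfl f) := by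
  conv_lhs => rw [← toVec_unfl f]
  rw [RHom_toVec _ (flL_length _), sqNorm_toVec _ (mvecL_length _), norm_id]

theorem sqNorm_smul (c : ℤ) (y : GolayPt → ℤ) : sqNorm (c • y) = c ^ 2 * sqNorm y := by
  unfold sqNorm
  rw [Finset.mul_sum]
  apply Finset.sum_congr rfl
  intro p _
  simp only [Pi.smul_apply, smul_eq_mul]
  ring

theorem sqNorm_iotaF {f : GolayPt → ℤ} (hf : f ∈ LI) : 2 * sqNorm (iotaF f) = nEZ (unfl f) := by
  have h1 := sqNorm_RHom f
  rw [(iotaF_spec hf).2, sqNorm_smul] at h1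
  omega

/-! ### injectivity -/

theorem pair_zero (p q : ℤ) (h : p * p + 5 * (q * q) + 2 * (p * q) ≤ 0) : p = 0 ∧ q = 0 := by
  have h1 : 0 ≤ (p + q) ^ 2 := sq_nonneg _
  have h2 : 0 ≤ q ^ 2 := sq_nonneg _
  have hq : q ^ 2 = 0 := by nlinarith
  have hq0 : q = 0 := by simpa using hq
  subst hq0
  have hp : p ^ 2 = 0 := by nlinarith
  exact ⟨by simpa using hp, rfl⟩

theorem pair_nonneg (p q : ℤ) : 0 ≤ p * p + 5 * (q * q) + 2 * (p * q) := by
  nlinarith [sq_nonneg (p + q), sq_nonneg q]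

theorem nEZ_eq_zero (V : Z24) (h : nEZ V = 0) : V = ⟨Z8.zero, Z8.zero, Z8.zero⟩ := by
  unfold nEZ nrm8 pq8 at h
  have a1 := pair_nonneg V.x.a0 V.x.a1
  have a2 := pair_nonneg V.x.a2 V.x.a3
  have a3 := pair_nonneg V.x.a4 V.x.a5
  have a4 := pair_nonneg V.x.a6 V.x.a7
  have b1 := pair_nonneg V.y.a0 V.y.a1
  have b2 := pair_nonneg V.y.a2 V.y.a3
  have b3 := pair_nonneg V.y.a4 V.y.a5
  have b4 := pair_nonneg V.y.a6 V.y.a7
  have c1 := pair_nonneg V.z.a0 V.z.a1
  have c2 := pair_nonneg V.z.a2 V.z.a3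
  have c3 := pair_nonneg V.z.a4 V.z.a5
  have c4 := pair_nonneg V.z.a6 V.z.a7
  obtain ⟨e1, e2⟩ := pair_zero V.x.a0 V.x.a1 (by linarith)
  obtain ⟨e3, e4⟩ := pair_zero V.x.a2 V.x.a3 (by linarith)
  obtain ⟨e5, e6⟩ := pair_zero V.x.a4 V.x.a5 (by linarith)
  obtain ⟨e7, e8⟩ := pair_zero V.x.a6 V.x.a7 (by linarith)
  obtain ⟨f1, f2⟩ := pair_zero V.y.a0 V.y.a1 (by linarith)
  obtain ⟨f3, f4⟩ := pair_zero V.y.a2 V.y.a3 (by linarith)
  obtain ⟨f5, f6⟩ := pair_zero V.y.a4 V.y.a5 (by linarith)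
  obtain ⟨f7, f8⟩ := pair_zero V.y.a6 V.y.a7 (by linarith)
  obtain ⟨g1, g2⟩ := pair_zero V.z.a0 V.z.a1 (by linarith)
  obtain ⟨g3, g4⟩ := pair_zero V.z.a2 V.z.a3 (by linarith)
  obtain ⟨g5, g6⟩ := pair_zero V.z.a4 V.z.a5 (by linarith)
  obtain ⟨g7, g8⟩ := pair_zero V.z.a6 V.z.a7 (by linarith)
  ext <;> assumption

theorem sqNorm_eq_zero' (y : GolayPt → ℤ) (h : y = 0) : sqNorm y = 0 := by
  rw [h]
  unfold sqNorm
  simp

theorem iotaF_injOn {f g : GolayPt → ℤ} (hf : f ∈ LI) (hg : g ∈ LI) (h : iotaF f = iotaF g) : f = g := by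
  have h1 : iotaF (f - g) = 0 := by rw [iotaF_sub hf hg, h, sub_self]
  have h2 := sqNorm_iotaF (LI.sub_mem hf hg)
  rw [sqNorm_eq_zero' _ h1] at h2
  have h3 := nEZ_eq_zero _ h2.symm
  have h4 : f - g = 0 := by
    rw [← toVec_unfl (f - g), h3]
    funext p
    rw [← mkPt_ptIdx p]
    have h := ptIdx_lt p
    generalize ptIdx p = k at h
    interval_cases k <;> rfl
  exact sub_eq_zero.1 h4

/-! ### surjectivity -/

/-- the dual vectors as functions. -/
def dualF (i : ℕ) : GolayPt → ℤ := toVec (dualD.getD i [])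

theorem dual_ok : (List.range 24).all (fun i => leechOK (dualD.getD i [])) = true := by decide +kernel

theorem dualF_mem {i : ℕ} (hi : i < 24) : dualF i ∈ leechLattice := by
  have := dual_ok
  rw [List.all_eq_true] at this
  exact mem_leechLattice_of_ok _ (this i (List.mem_range.2 hi))

theorem dual_chk : ∀ a < 24, ∀ b < 24, ∑ i ∈ Finset.range 24,
    (gensB.getD i []).getD a 0 * (dualD.getD i []).getD b 0 = if a = b then 8 else 0 := by decide +kernel

theorem dual_id (p q : GolayPt) : ∑ i ∈ Finset.range 24, genBF i p * dualF i q = if p = q then 8 else 0 := by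
  have h := dual_chk (ptIdx p) (ptIdx_lt p) (ptIdx q) (ptIdx_lt q)
  have e : (ptIdx p = ptIdx q) ↔ p = q := ⟨fun h => ptIdx_injective h, fun h => by rw [h]⟩
  simp only [e] at h
  exact h

theorem gens_inLam : ∀ i < 24, inLam (unflL (gensZ.getD i [])) := by decide

theorem genF_mem_LI {i : ℕ} (hi : i < 24) : genF i ∈ LI := by
  rw [mem_LI]
  unfold genF
  rw [PhiHom_apply]
  exact phi3_mem _ (gens_inLam i hi)

theorem iotaF_surj {y : GolayPt → ℤ} (hy : y ∈ leechLattice) : ∃ f ∈ LI, iotaF f = y := by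
  have hdvd : ∀ i < 24, (8 : ℤ) ∣ dotInt y (dualF i) := fun i hi => dot_dvd hy (dualF_mem hi)
  let c : ℕ → ℤ := fun i => dotInt y (dualF i) / 8
  have hc : ∀ i < 24, 8 * c i = dotInt y (dualF i) := fun i hi => Int.mul_ediv_cancel' (hdvd i hi)
  have hy' : y = ∑ i ∈ Finset.range 24, c i • genBF i := by
    funext p
    have h8 : (8 : ℤ) * y p = 8 * (∑ i ∈ Finset.range 24, c i • genBF i) p := by
      rw [Finset.sum_apply, Finset.mul_sum]
      have h1 : ∀ i ∈ Finset.range 24, 8 * (c i • genBF i) p = ∑ q, y q * (genBF i p * dualF i q) := by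
        intro i hi
        simp only [Pi.smul_apply, smul_eq_mul]
        rw [← mul_assoc, hc i (Finset.mem_range.1 hi)]
        unfold dotInt
        rw [Finset.sum_mul]
        apply Finset.sum_congr rfl
        intro q _
        ring
      rw [Finset.sum_congr rfl h1, Finset.sum_comm]
      have h2 : ∀ q : GolayPt, ∑ i ∈ Finset.range 24, y q * (genBF i p * dualF i q) =
          y q * (if p = q then 8 else 0) := by
        intro q
        rw [← Finset.mul_sum, dual_id]
      rw [Finset.sum_congr rfl (fun q _ => h2 q)]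
      simp only [mul_ite, mul_zero, Finset.sum_ite_eq, Finset.mem_univ, if_true]
      ring
    omega
  refine ⟨∑ i ∈ Finset.range 24, c i • genF i, ?_, ?_⟩
  · exact LI.sum_mem (fun i hi => LI.zsmul_mem (genF_mem_LI (Finset.mem_range.1 hi)) _)
  · have hmem : ∑ i ∈ Finset.range 24, c i • genF i ∈ LI :=
      LI.sum_mem (fun i hi => LI.zsmul_mem (genF_mem_LI (Finset.mem_range.1 hi)) _)
    apply smul16_inj
    rw [← (iotaF_spec hmem).2, map_sum, hy', Finset.smul_sum]
    apply Finset.sum_congr rfl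
    intro i hi
    rw [map_zsmul, RHom_genF (Finset.mem_range.1 hi), smul_comm]

end Cfsg.Agent.Helper9.JCo
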