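import Mathlib
import Cfsg.Agent.Helper9.JCo.Iso2

set_option autoImplicit false

/-! Helper9, S5403: the isometry from the icosian Leech lattice onto the lattice of rank 24 given by the code. -/

namespace Cfsg.Agent.Helper9.JCo

open Cfsg Cfsg.Spor Quaternion
open Cfsg.Agent.Helper9.J2B Cfsg.Agent.Helper9.Golay Cfsg.Agent.Helper9.Leech Cfsg.Agent.Helper9.LeechAct

/-- the integer coordinates of a vector of the icosian Leech lattice. -/
noncomputable def cz (x : icoLeech) : Z24 := Classical.choose ((mem_icoLeech_iff x.1).1 x.2)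

theorem cz_spec (x : icoLeech) : inLam (cz x) ∧ (x : Fin 3 → ℍ[ℝ]) = phi3 (cz x) :=
  Classical.choose_spec ((mem_icoLeech_iff x.1).1 x.2)

theorem cz_eq {x : icoLeech} {V : Z24} (h : (x : Fin 3 → ℍ[ℝ]) = phi3 V) : cz x = V :=
  phi3_injective ((cz_spec x).2.symm.trans h)

theorem cz_toLam (V : Z24) (h : inLam V) : cz (toLam V) = V := cz_eq (toLam_val V h)

/-- as a function on the 24 points. -/
noncomputable def czF (x : icoLeech) : GolayPt → ℤ := toVec (flL (cz x))

theorem PhiHom_czF (x : icoLeech) : PhiHom (czF x) = x := by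
  unfold czF
  rw [PhiHom_toVec]
  exact (cz_spec x).2.symm

theorem czF_mem (x : icoLeech) : czF x ∈ LI := by
  rw [mem_LI, PhiHom_czF]
  exact x.2

theorem czF_eq {x : icoLeech} {f : GolayPt → ℤ} (h : PhiHom f = x) : czF x = f :=
  PhiHom_injective ((PhiHom_czF x).trans h.symm)

theorem unfl_czF (x : icoLeech) : unfl (czF x) = cz x := unfl_toVec _

theorem czF_toLam (V : Z24) (h : inLam V) : czF (toLam V) = toVec (flL V) := by
  unfold czF
  rw [cz_toLam V h]

theorem czF_subL (x y : icoLeech) : czF (subL x y) = czF x - czF y := by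
  apply czF_eq
  rw [map_sub, PhiHom_czF, PhiHom_czF]
  rfl

theorem czF_injective : Function.Injective czF := by
  intro x y h
  apply Subtype.ext
  rw [← PhiHom_czF x, ← PhiHom_czF y, h]

/-- the isometry. -/
noncomputable def iota : icoLeech ≃ leechLattice :=
  Equiv.ofBijective (fun x => ⟨iotaF (czF x), (iotaF_spec (czF_mem x)).1⟩) (by
    constructor
    · intro x y h
      have h1 : iotaF (czF x) = iotaF (czF y) := congrArg Subtype.val h
      exact czF_injective (iotaF_injOn (czF_mem x) (czF_mem y) h1)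
    · rintro ⟨y, hy⟩
      obtain ⟨f, hf, e⟩ := iotaF_surj hy
      refine ⟨⟨PhiHom f, hf⟩, ?_⟩
      apply Subtype.ext
      show iotaF (czF ⟨PhiHom f, hf⟩) = y
      rw [czF_eq (x := ⟨PhiHom f, hf⟩) rfl, e])

theorem iota_val (x : icoLeech) : ((iota x : leechLattice) : GolayPt → ℤ) = iotaF (czF x) := rfl

theorem iota_subL (x y : icoLeech) : iota (subL x y) = iota x - iota y := by
  apply Subtype.ext
  rw [iota_val, czF_subL, iotaF_sub (czF_mem x) (czF_mem y)]
  rfl

theorem iota_norm (x : icoLeech) : 2 * sqNorm ((iota x : leechLattice) : GolayPt → ℤ) = nEZ (cz x) := by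
  rw [iota_val, sqNorm_iotaF (czF_mem x), unfl_czF]

/-- the image of a vector given in integer coordinates, as a list. -/
def iotaL (l : List ℤ) : List ℤ := (mvecL l).map (fun a => a / 16)

theorem iotaF_toVec (l : List ℤ) (hl : l.length = 24) : iotaF (toVec l) = toVec (iotaL l) := by
  funext p
  unfold iotaF iotaL
  rw [RHom_toVec l hl]
  unfold toVec
  have := List.getD_map (f := fun a : ℤ => a / 16) (l := mvecL l) (n := ptIdx p) (d := 0)
  rw [Int.zero_ediv] at this
  rw [this]

theorem iota_toLam (V : Z24) (h : inLam V) :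
    ((iota (toLam V) : leechLattice) : GolayPt → ℤ) = toVec (iotaL (flL V)) := by
  rw [iota_val, czF_toLam V h, iotaF_toVec _ (flL_length V)]

/-- the vector of the icosian lattice with given image. -/
theorem iota_symm_apply {y : leechLattice} {V : Z24} (h : inLam V) (e : (y : GolayPt → ℤ) = toVec (iotaL (flL V))) :
    iota.symm y = toLam V := by
  rw [Equiv.symm_apply_eq]
  apply Subtype.ext
  rw [iota_toLam V h, e]

end Cfsg.Agent.Helper9.JCo
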