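import Mathlib
import Cfsg.Agent.Helper9.JCo.Iso3
import Cfsg.Agent.Helper9.Leech.Monomial

set_option autoImplicit false

/-! Helper9, S5403: transfer of permutations of the icosian Leech lattice to the lattice of rank 24; the additive
permutations keeping the Euclidean norm correspond to the automorphism group. -/

namespace Cfsg.Agent.Helper9.JCo

open Cfsg Cfsg.Spor Quaternion
open Cfsg.Agent.Helper9.J2B Cfsg.Agent.Helper9.Golay Cfsg.Agent.Helper9.Leech Cfsg.Agent.Helper9.LeechAct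

/-- conjugation by the isometry. -/
noncomputable def PsiP : Equiv.Perm icoLeech ≃* Equiv.Perm leechLattice := Equiv.permCongrHom iota

theorem PsiP_apply (σ : Equiv.Perm icoLeech) (y : leechLattice) : PsiP σ y = iota (σ (iota.symm y)) := rfl

theorem PsiP_iota (σ : Equiv.Perm icoLeech) (x : icoLeech) : PsiP σ (iota x) = iota (σ x) := by
  rw [PsiP_apply, Equiv.symm_apply_apply]

theorem PsiP_symm_apply (g : Equiv.Perm leechLattice) (x : icoLeech) :
    PsiP.symm g x = iota.symm (g (iota x)) := rfl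

/-- the additive permutations of the icosian Leech lattice keeping the Euclidean norm. -/
noncomputable def IsoE : Subgroup (Equiv.Perm icoLeech) := Co0.comap PsiP.toMonoidHom

theorem mem_IsoE (σ : Equiv.Perm icoLeech) : σ ∈ IsoE ↔ PsiP σ ∈ Co0 := Iff.rfl

theorem iota_zero (x : icoLeech) : iota (subL x x) = 0 := by
  rw [iota_subL, sub_self]

theorem iota_symm_add (v w : leechLattice) :
    iota.symm (v + w) = subL (iota.symm v) (subL (subL (iota.symm v) (iota.symm v)) (iota.symm w)) := by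
  rw [Equiv.symm_apply_eq, iota_subL, iota_subL, iota_zero, Equiv.apply_symm_apply, Equiv.apply_symm_apply]
  abel

theorem mem_IsoE_of (σ : Equiv.Perm icoLeech) (hsub : ∀ x y, σ (subL x y) = subL (σ x) (σ y))
    (hn : ∀ x, nEZ (cz (σ x)) = nEZ (cz x)) : σ ∈ IsoE := by
  rw [mem_IsoE]
  constructor
  · intro v w
    rw [PsiP_apply, PsiP_apply, PsiP_apply, iota_symm_add, hsub, hsub, hsub, iota_subL, iota_subL, iota_zero]
    abel
  · intro v
    have h1 := iota_norm (σ (iota.symm v))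
    have h2 := iota_norm (iota.symm v)
    rw [Equiv.apply_symm_apply] at h2
    rw [PsiP_apply]
    rw [hn] at h1
    omega

theorem co0_map_sub {g : Equiv.Perm leechLattice} (hg : g ∈ Co0) (v w : leechLattice) :
    g (v - w) = g v - g w := map_sub (toAddHom hg) v w

theorem IsoE_sub {σ : Equiv.Perm icoLeech} (hσ : σ ∈ IsoE) (x y : icoLeech) :
    σ (subL x y) = subL (σ x) (σ y) := by
  have hσ' : PsiP σ ∈ Co0 := hσ
  apply iota.injective
  rw [← PsiP_iota, iota_subL, co0_map_sub hσ', PsiP_iota, PsiP_iota, iota_subL]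

theorem IsoE_norm {σ : Equiv.Perm icoLeech} (hσ : σ ∈ IsoE) (x : icoLeech) :
    nEZ (cz (σ x)) = nEZ (cz x) := by
  have h1 := iota_norm (σ x)
  have h2 := iota_norm x
  have hσ' : PsiP σ ∈ Co0 := hσ
  have h3 := hσ'.2 (iota x)
  rw [PsiP_iota] at h3
  omega

/-- the transfer as an isomorphism of groups. -/
noncomputable def PsiE : ↥IsoE ≃* ↥Co0 where
  toFun σ := ⟨PsiP σ.1, σ.2⟩
  invFun g := ⟨PsiP.symm g.1, by
    rw [mem_IsoE, MulEquiv.apply_symm_apply]
    exact g.2⟩
  left_inv σ := by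
    apply Subtype.ext
    exact PsiP.symm_apply_apply _
  right_inv g := by
    apply Subtype.ext
    exact PsiP.apply_symm_apply _
  map_mul' σ τ := by
    apply Subtype.ext
    exact map_mul PsiP σ.1 τ.1

theorem PsiE_val (σ : ↥IsoE) : ((PsiE σ : ↥Co0) : Equiv.Perm leechLattice) = PsiP σ.1 := rfl

/-! ### the norm from the Hermitian product -/

/-- the two parts of the norm. -/
def nrmZ (V : Z24) : ℤ := nrm8 V.x + nrm8 V.y + nrm8 V.z

def pqZ (V : Z24) : ℤ := pq8 V.x + pq8 V.y + pq8 V.z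

theorem nEZ_eq (V : Z24) : nEZ V = nrmZ V + 2 * pqZ V := rfl

theorem nrm_pq_of_qip {V W : Z24} (h : qip (phi3 V) (phi3 V) = qip (phi3 W) (phi3 W)) :
    nrmZ V = nrmZ W ∧ pqZ V = pqZ W := by
  rw [qip_phi3, qip_phi3, qipZ_self, qipZ_self] at h
  have h1 := congrArg (fun q : ℍ[ℝ] => (4 : ℝ) • q) h
  simp only [smul_smul] at h1
  norm_num at h1
  have h2 := phi_injective h1
  have e0 := congrArg Z8.a0 h2
  have e1 := congrArg Z8.a1 h2
  simp only at e0 e1
  constructor
  · exact e0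
  · unfold pqZ
    omega

theorem qip_of_nrm_pq {V W : Z24} (h1 : nrmZ V = nrmZ W) (h2 : pqZ V = pqZ W) :
    qip (phi3 V) (phi3 V) = qip (phi3 W) (phi3 W) := by
  rw [qip_phi3, qip_phi3, qipZ_self, qipZ_self]
  unfold nrmZ at h1
  unfold pqZ at h2
  have e : 2 * pq8 V.x + 2 * pq8 V.y + 2 * pq8 V.z = 2 * pq8 W.x + 2 * pq8 W.y + 2 * pq8 W.z := by omega
  rw [h1, e]

theorem qip_self_cz (x : icoLeech) :
    qip (x : Fin 3 → ℍ[ℝ]) (x : Fin 3 → ℍ[ℝ]) = qip (phi3 (cz x)) (phi3 (cz x)) := by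
  rw [← (cz_spec x).2]

/-- a permutation keeping the Hermitian product lies in `IsoE`. -/
theorem isoSub_le_IsoE : isoSub ≤ IsoE := by
  intro σ hσ
  apply mem_IsoE_of
  · intro x y
    apply Subtype.ext
    rw [iso_sub σ hσ]
    rfl
  · intro x
    have h := hσ x x
    rw [qip_self_cz, qip_self_cz] at h
    obtain ⟨h1, h2⟩ := nrm_pq_of_qip h
    rw [nEZ_eq, nEZ_eq, h1, h2]

end Cfsg.Agent.Helper9.JCo
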