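import Mathlib
import Cfsg.Agent.Helper9.JCo.Trans

set_option autoImplicit false

/-! Helper9, S5403: the multiplication by a unit of order five on the icosian Leech lattice, and the permutations
commuting with it. -/

namespace Cfsg.Agent.Helper9.JCo

open Cfsg Cfsg.Spor Quaternion
open Cfsg.Agent.Helper9.J2B Cfsg.Agent.Helper9.Golay Cfsg.Agent.Helper9.Leech Cfsg.Agent.Helper9.LeechAct

/-- the conjugate of the unit. -/
def U4c : Z8 := Z8.conj U4

theorem U4_mem : phi U4 ∈ icosians := (mem_icosians_iff _).2 ⟨U4, by decide, rfl⟩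

theorem U4c_mem : phi U4c ∈ icosians := (mem_icosians_iff _).2 ⟨U4c, by decide, rfl⟩

theorem U4_mul_U4c : phi U4 * phi U4c = 1 := by
  rw [phi_mul_of U4 U4c U0 (by decide), phi_U0]

theorem U4c_mul_U4 : phi U4c * phi U4 = 1 := by
  rw [phi_mul_of U4c U4 U0 (by decide), phi_U0]

theorem phi_U4c : phi U4c = star (phi U4) := phi_conj U4

/-- the multiplication by the unit, as a permutation of the lattice. -/
noncomputable def omP : Equiv.Perm icoLeech where
  toFun := lmulL (phi U4) U4_mem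
  invFun := lmulL (phi U4c) U4c_mem
  left_inv x := by
    apply Subtype.ext
    show lmul (phi U4c) (lmul (phi U4) x) = x
    rw [lmul_lmul, U4c_mul_U4, lmul_one]
  right_inv x := by
    apply Subtype.ext
    show lmul (phi U4) (lmul (phi U4c) x) = x
    rw [lmul_lmul, U4_mul_U4c, lmul_one]

theorem omP_val (x : icoLeech) : ((omP x : icoLeech) : Fin 3 → ℍ[ℝ]) = lmul (phi U4) x := rfl

theorem omP_pow_val (k : ℕ) (x : icoLeech) :
    (((omP ^ k) x : icoLeech) : Fin 3 → ℍ[ℝ]) = lmul (phi U4 ^ k) x := by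
  induction k with
  | zero => rw [pow_zero, pow_zero, lmul_one]; rfl
  | succ k ih =>
    rw [pow_succ', Equiv.Perm.mul_apply, omP_val, ih, lmul_lmul, pow_succ']

/-- the powers of the unit. -/
def U4p2 : Z8 := Z8.dv (Z8.mul U4 U4) 4

def U4p3 : Z8 := Z8.dv (Z8.mul U4p2 U4) 4

def U4p4 : Z8 := Z8.dv (Z8.mul U4p3 U4) 4

theorem U4_pow_five : phi U4 ^ 5 = 1 := by
  have h2 : phi U4 * phi U4 = phi U4p2 := phi_mul_of _ _ _ (by decide)
  have h3 : phi U4p2 * phi U4 = phi U4p3 := phi_mul_of _ _ _ (by decide)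
  have h4 : phi U4p3 * phi U4 = phi U4p4 := phi_mul_of _ _ _ (by decide)
  have h5 : phi U4p4 * phi U4 = phi U0 := phi_mul_of _ _ _ (by decide)
  rw [pow_succ, pow_succ, pow_succ, pow_succ, pow_one, h2, h3, h4, h5, phi_U0]

theorem omP_pow_five : omP ^ 5 = 1 := by
  apply Equiv.ext
  intro x
  apply Subtype.ext
  rw [omP_pow_val, U4_pow_five, lmul_one]
  rfl

theorem omP_ne_one : omP ≠ 1 := by
  intro h
  have h1 := congrArg (fun σ : Equiv.Perm icoLeech => ((σ (toLam B1) : icoLeech) : Fin 3 → ℍ[ℝ]) 0) h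
  simp only [omP_val, Equiv.Perm.coe_one, id_eq, lmul_apply] at h1
  rw [toLam_val B1 B_inLam.1] at h1
  simp only [phi3_zero] at h1
  have h2 : phi U4 * phi B1.x = phi (Z8.sm 2 U4) := phi_mul_of _ _ _ (by decide)
  rw [h2] at h1
  have := phi_injective h1
  revert this
  decide

theorem orderOf_omP : orderOf omP = 5 :=
  haveI : Fact (Nat.Prime 5) := ⟨by norm_num⟩
  orderOf_eq_prime omP_pow_five omP_ne_one

/-- the Hermitian square is a real number. -/
theorem qip_self_real (x : Fin 3 → ℍ[ℝ]) : ∃ r : ℝ, qip x x = (r : ℍ[ℝ]) := by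
  refine ⟨normSq (x 0) + normSq (x 1) + normSq (x 2), ?_⟩
  rw [qip_def, Quaternion.self_mul_star, Quaternion.self_mul_star, Quaternion.self_mul_star]
  simp

theorem qip_lmul_unit (u : ℍ[ℝ]) (hu : u * star u = 1) (x : Fin 3 → ℍ[ℝ]) :
    qip (lmul u x) (lmul u x) = qip x x := by
  obtain ⟨r, hr⟩ := qip_self_real x
  rw [qip_lmul_left, qip_lmul_right, hr, ← mul_assoc, ← Quaternion.coe_commutes, mul_assoc, hu, mul_one]

theorem omP_qip (x : icoLeech) : qip ((omP x : icoLeech) : Fin 3 → ℍ[ℝ]) ((omP x : icoLeech) : Fin 3 → ℍ[ℝ]) =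
    qip (x : Fin 3 → ℍ[ℝ]) (x : Fin 3 → ℍ[ℝ]) := by
  rw [omP_val]
  apply qip_lmul_unit
  rw [← phi_U4c, U4_mul_U4c]

theorem omP_subL (x y : icoLeech) : omP (subL x y) = subL (omP x) (omP y) := by
  apply Subtype.ext
  show lmul (phi U4) ((x : Fin 3 → ℍ[ℝ]) - y) = lmul (phi U4) x - lmul (phi U4) y
  rw [lmul_sub]

theorem omP_mem : omP ∈ IsoE := by
  apply mem_IsoE_of _ omP_subL
  intro x
  have h := omP_qip x
  rw [qip_self_cz, qip_self_cz] at h
  obtain ⟨h1, h2⟩ := nrm_pq_of_qip h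
  rw [nEZ_eq, nEZ_eq, h1, h2]

/-- the permutations keeping the Hermitian product commute with the multiplication by the unit. -/
theorem isoSub_comm (σ : Equiv.Perm icoLeech) (hσ : σ ∈ isoSub) : σ * omP = omP * σ := by
  apply Equiv.ext
  intro x
  apply Subtype.ext
  rw [Equiv.Perm.mul_apply, Equiv.Perm.mul_apply]
  exact iso_lmul σ hσ (phi U4) U4_mem x

/-! ### the two parts of the norm are kept by the permutations commuting with the unit -/

theorem nrm8_mul (a b : Z8) : nrm8 (Z8.mul a b) = nrm8 a * nrm8 b + 20 * (pq8 a * pq8 b) := by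
  simp only [Z8.mul, nrm8, pq8]
  ring

theorem pq8_mul (a b : Z8) : pq8 (Z8.mul a b) = nrm8 a * pq8 b + pq8 a * nrm8 b := by
  simp only [Z8.mul, nrm8, pq8]
  ring

theorem nrm8_sm (n : ℤ) (a : Z8) : nrm8 (Z8.sm n a) = n * n * nrm8 a := by
  simp only [Z8.sm, nrm8]
  ring

theorem pq8_sm (n : ℤ) (a : Z8) : pq8 (Z8.sm n a) = n * n * pq8 a := by
  simp only [Z8.sm, pq8]
  ring

/-- the unit minus one. -/
def Um : Z8 := Z8.sub U4 U0

theorem phi_Um : phi Um = phi U4 - 1 := by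
  unfold Um
  rw [phi_sub, phi_U0]

theorem comp_rel {c c' : Z8} (h : phi c' = phi Um * phi c) : Z8.sm 4 c' = Z8.mul Um c := by
  apply phi_injective
  rw [phi_sm, h, phi_mul, smul_smul]
  norm_num

theorem comp_norm {c c' : Z8} (h : phi c' = phi Um * phi c) :
    nrm8 c' + 2 * pq8 c' = 2 * nrm8 c := by
  have e := comp_rel h
  have h1 := congrArg nrm8 e
  have h2 := congrArg pq8 e
  rw [nrm8_sm, nrm8_mul] at h1
  rw [pq8_sm, pq8_mul] at h2
  have n1 : nrm8 Um = 40 := by decide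
  have n2 : pq8 Um = -4 := by decide
  rw [n1, n2] at h1 h2
  omega

theorem nEZ_diff (x : icoLeech) : nEZ (cz (subL (omP x) x)) = 2 * nrmZ (cz x) := by
  have hv : ((subL (omP x) x : icoLeech) : Fin 3 → ℍ[ℝ]) = lmul (phi Um) x := by
    show lmul (phi U4) x - (x : Fin 3 → ℍ[ℝ]) = _
    funext t
    simp only [Pi.sub_apply, lmul_apply, phi_Um, sub_mul, one_mul]
  have h1 := (cz_spec (subL (omP x) x)).2
  have h2 := (cz_spec x).2
  rw [hv, h2] at h1
  have e0 := congrFun h1 0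
  have e1 := congrFun h1 1
  have e2 := congrFun h1 2
  simp only [lmul_apply, phi3_zero, phi3_one, phi3_two] at e0 e1 e2
  have c0 := comp_norm e0.symm
  have c1 := comp_norm e1.symm
  have c2 := comp_norm e2.symm
  unfold nEZ nrmZ
  omega

theorem comm_nrm {σ : Equiv.Perm icoLeech} (hσ : σ ∈ IsoE) (hc : σ * omP = omP * σ) (x : icoLeech) :
    nrmZ (cz (σ x)) = nrmZ (cz x) ∧ pqZ (cz (σ x)) = pqZ (cz x) := by
  have h1 := nEZ_diff (σ x)
  have h2 := nEZ_diff x
  have h3 : subL (omP (σ x)) (σ x) = σ (subL (omP x) x) := by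
    rw [IsoE_sub hσ]
    congr 1
    have := congrArg (fun τ : Equiv.Perm icoLeech => τ x) hc
    simp only [Equiv.Perm.mul_apply] at this
    exact this.symm
  rw [h3, IsoE_norm hσ] at h1
  have h4 := IsoE_norm hσ x
  rw [nEZ_eq, nEZ_eq] at h4
  constructor <;> omega

theorem comm_minSet {σ : Equiv.Perm icoLeech} (hσ : σ ∈ IsoE) (hc : σ * omP = omP * σ) {x : icoLeech}
    (hx : x ∈ minSet) : σ x ∈ minSet := by
  obtain ⟨h1, h2⟩ := comm_nrm hσ hc x
  show qip _ _ = 4
  rw [qip_self_cz, qip_of_nrm_pq h1 h2, ← qip_self_cz]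
  exact hx

end Cfsg.Agent.Helper9.JCo
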