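import Mathlib

set_option autoImplicit false

/-! Helper9, S5403: a section of a finite group: the centralizer of an element of order five that is the product of
the group generated by the element and of a subgroup with centre of order two, modulo the element and the centre of the
group. -/

namespace Cfsg.Agent.Helper9.JCo

open Subgroup
open scoped Pointwise

/-- a normal subgroup of order two is central. -/
theorem le_center_of_card_two {T : Type*} [Group T] (K : Subgroup T) [hK : K.Normal] (hc : Nat.card K = 2) :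
    K ≤ center T := by
  intro k hk
  rw [Subgroup.mem_center_iff]
  intro g
  by_cases h1 : k = 1
  · rw [h1, mul_one, one_mul]
  · have hcj := hK.conj_mem k hk g
    obtain ⟨y, -, huniq⟩ := (Nat.card_eq_two_iff' (1 : K)).1 hc
    have e1 : (⟨k, hk⟩ : K) = y := huniq _ (by
      intro h
      exact h1 (congrArg Subtype.val h))
    have e2 : (⟨g * k * g⁻¹, hcj⟩ : K) = y := huniq _ (by
      intro h
      apply h1
      have h2 : g * k * g⁻¹ = 1 := congrArg Subtype.val h
      have h3 : k = g⁻¹ * (g * k * g⁻¹) * g := by group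
      rw [h3, h2]
      group)
    have e3 : g * k * g⁻¹ = k := congrArg Subtype.val (e2.trans e1.symm)
    calc g * k = g * k * g⁻¹ * g := by group
      _ = k * g := by rw [e3]

theorem section_iso_aux {G T₀ : Type*} [Group G] [Finite G] [Group T₀] [Finite T₀]
    (a : G) (ha : orderOf a = 5) (C : Subgroup G) (hCmem : ∀ x, x ∈ C ↔ x * a = a * x)
    (j : T₀ →* G) (hj : Function.Injective j)
    (hcomm : ∀ t, j t * a = a * j t) (hdisj : a ∉ j.range)
    (hZ : Nat.card (center G) = 2) (hZ₀ : Nat.card (center T₀) = 2)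
    (hC : Nat.card C ≤ 5 * Nat.card T₀) :
    ∃ (_ : ((zpowers a ⊔ center G).subgroupOf C).Normal),
      Nonempty (T₀ ⧸ center T₀ ≃* ↥C ⧸ (zpowers a ⊔ center G).subgroupOf C) := by
  have hcardA : Nat.card (zpowers a) = 5 := by rw [Nat.card_zpowers, ha]
  have hAC : zpowers a ≤ C := by
    rw [zpowers_le]
    exact (hCmem a).2 rfl
  have hZC : center G ≤ C := by
    intro z hz
    exact (hCmem z).2 (Subgroup.mem_center_iff.1 hz a).symm
  have hsup : zpowers a ⊔ center G ≤ centralizer (C : Set G) := by
    apply sup_le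
    · rw [zpowers_le, mem_centralizer_iff]
      intro c hc
      exact (hCmem c).1 hc
    · exact center_le_centralizer _
  have hcen : ∀ n ∈ zpowers a ⊔ center G, ∀ c ∈ C, c * n = n * c := by
    intro n hn c hc
    exact mem_centralizer_iff.1 (hsup hn) c hc
  have hn : ((zpowers a ⊔ center G).subgroupOf C).Normal := by
    constructor
    intro n hn g
    rw [mem_subgroupOf] at hn ⊢
    have e : ((g * n * g⁻¹ : ↥C) : G) = (n : G) := by
      have h1 := hcen _ hn _ g.2
      show (g : G) * (n : G) * (g : G)⁻¹ = n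
      rw [h1, mul_inv_cancel_right]
    rw [e]
    exact hn
  refine ⟨hn, ?_⟩
  -- the subgroup inside the centralizer
  let j' : T₀ →* ↥C := j.codRestrict C (fun t => (hCmem _).2 (hcomm t))
  have hj' : Function.Injective j' := by
    intro s t h
    apply hj
    exact congrArg Subtype.val h
  -- the element generates a group meeting the subgroup trivially
  have hdis : ∀ y, y ∈ zpowers a → y ∈ j.range → y = 1 := by
    intro y hy hy'
    haveI : Fact (Nat.card (zpowers a)).Prime := ⟨by rw [hcardA]; norm_num⟩
    rcases Subgroup.eq_bot_or_eq_top_of_prime_card ((j.range).subgroupOf (zpowers a)) with h | h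
    · have h1 : (⟨y, hy⟩ : ↥(zpowers a)) ∈ (j.range).subgroupOf (zpowers a) := mem_subgroupOf.2 hy'
      rw [h, mem_bot] at h1
      exact congrArg Subtype.val h1
    · exfalso
      apply hdisj
      have h1 : (⟨a, mem_zpowers a⟩ : ↥(zpowers a)) ∈ (j.range).subgroupOf (zpowers a) := by
        rw [h]
        exact mem_top _
      exact mem_subgroupOf.1 h1
  -- the product decomposition
  let φ : ↥(zpowers a) × T₀ → ↥C := fun p => ⟨(p.1 : G) * j p.2, C.mul_mem (hAC p.1.2) (j' p.2).2⟩
  have hφ : Function.Injective φ := by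
    rintro ⟨x, s⟩ ⟨y, t⟩ h
    have h1 : (x : G) * j s = (y : G) * j t := congrArg Subtype.val h
    have h2 : (y : G)⁻¹ * x = j t * (j s)⁻¹ := by
      rw [inv_mul_eq_iff_eq_mul, ← mul_assoc, ← h1, mul_inv_cancel_right]
    have h3 : (y : G)⁻¹ * x = 1 := by
      apply hdis _ ((zpowers a).mul_mem ((zpowers a).inv_mem y.2) x.2)
      rw [h2]
      exact j.range.mul_mem ⟨t, rfl⟩ (j.range.inv_mem ⟨s, rfl⟩)
    have h4 : j t * (j s)⁻¹ = 1 := by rw [← h2, h3]
    apply Prod.ext
    · exact Subtype.ext (inv_mul_eq_one.mp h3).symm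
    · exact hj (mul_inv_eq_one.mp h4).symm
  have hbij : Function.Bijective φ := hφ.bijective_of_nat_card_le (by
    rw [Nat.card_prod, hcardA]
    exact hC)
  have hcardC : Nat.card ↥C = 5 * Nat.card T₀ := by
    rw [← Nat.card_congr (Equiv.ofBijective φ hbij), Nat.card_prod, hcardA]
  -- the homomorphism onto the quotient
  let N : Subgroup ↥C := (zpowers a ⊔ center G).subgroupOf C
  haveI : N.Normal := hn
  let F : T₀ →* ↥C ⧸ N := (QuotientGroup.mk' N).comp j'
  have hF : Function.Surjective F := by
    intro y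
    obtain ⟨c, rfl⟩ := QuotientGroup.mk_surjective y
    obtain ⟨⟨x, t⟩, rfl⟩ := hbij.2 c
    refine ⟨t, ?_⟩
    show (QuotientGroup.mk (j' t) : ↥C ⧸ N) = QuotientGroup.mk (φ (x, t))
    rw [QuotientGroup.eq]
    show (j' t)⁻¹ * φ (x, t) ∈ (zpowers a ⊔ center G).subgroupOf C
    rw [mem_subgroupOf]
    have e : (((j' t)⁻¹ * φ (x, t) : ↥C) : G) = (x : G) := by
      show (j t)⁻¹ * ((x : G) * j t) = x
      have h1 := hcen (x : G) (mem_sup_left x.2) (j t) (j' t).2
      rw [← h1, inv_mul_cancel_left]
    rw [e]
    exact mem_sup_left x.2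
  -- the orders
  have hcardN : Nat.card ↥N = 10 := by
    have h0 : Nat.card ↥N = Nat.card ↥(zpowers a ⊔ center G) :=
      Nat.card_congr (subgroupOfEquivOfLe (sup_le hAC hZC)).toEquiv
    rw [h0]
    apply le_antisymm
    · have h1 : Nat.card ↥(zpowers a ⊔ center G) = Nat.card ↥((zpowers a : Set G) * (center G : Set G)) := by
        rw [← mul_normal]
        rfl
      rw [h1]
      refine Set.natCard_mul_le.trans ?_
      have h2 : Nat.card ↥(zpowers a : Set G) = 5 := hcardA
      have h3 : Nat.card ↥(center G : Set G) = 2 := hZ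
      rw [h2, h3]
    · have h1 : 5 ∣ Nat.card ↥(zpowers a ⊔ center G) := by
        rw [← hcardA]
        exact card_dvd_of_le le_sup_left
      have h2 : 2 ∣ Nat.card ↥(zpowers a ⊔ center G) := by
        rw [← hZ]
        exact card_dvd_of_le le_sup_right
      have h3 : 5 * 2 ∣ Nat.card ↥(zpowers a ⊔ center G) :=
        Nat.Coprime.mul_dvd_of_dvd_of_dvd (by norm_num) h1 h2
      exact Nat.le_of_dvd Nat.card_pos h3
  have hq : Nat.card ↥C = Nat.card (↥C ⧸ N) * Nat.card ↥N := card_eq_card_quotient_mul_card_subgroup N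
  have hk : Nat.card T₀ = Nat.card (T₀ ⧸ F.ker) * Nat.card ↥F.ker := card_eq_card_quotient_mul_card_subgroup F.ker
  have hqk : Nat.card (T₀ ⧸ F.ker) = Nat.card (↥C ⧸ N) :=
    Nat.card_congr (QuotientGroup.quotientKerEquivOfSurjective F hF).toEquiv
  have hker : Nat.card ↥F.ker = 2 := by
    rw [hcardN, hcardC] at hq
    rw [hqk] at hk
    have hpos : 0 < Nat.card (↥C ⧸ N) := Nat.card_pos
    generalize Nat.card (↥C ⧸ N) = q at *
    generalize Nat.card ↥F.ker = k at *
    generalize Nat.card T₀ = n at *
    have : q * k = q * 2 := by omega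
    exact Nat.eq_of_mul_eq_mul_left hpos this
  have hkc : F.ker = center T₀ := by
    apply Subgroup.eq_of_le_of_card_ge (le_center_of_card_two F.ker hker)
    rw [hker, hZ₀]
  exact ⟨(QuotientGroup.quotientMulEquivOfEq hkc.symm).trans
    (QuotientGroup.quotientKerEquivOfSurjective F hF)⟩

/-- the section, for the centralizer of the group generated by the element. -/
theorem section_iso {G T₀ : Type*} [Group G] [Finite G] [Group T₀] [Finite T₀]
    (a : G) (ha : orderOf a = 5) (j : T₀ →* G) (hj : Function.Injective j)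
    (hcomm : ∀ t, j t * a = a * j t) (hdisj : a ∉ j.range)
    (hZ : Nat.card (center G) = 2) (hZ₀ : Nat.card (center T₀) = 2)
    (hC : Nat.card (centralizer ({a} : Set G)) ≤ 5 * Nat.card T₀) :
    Nat.card (zpowers a) = 5 ∧
    ∃ (_ : ((zpowers a ⊔ center G).subgroupOf (centralizer (zpowers a : Set G))).Normal),
      Nonempty (T₀ ⧸ center T₀ ≃* ↥(centralizer (zpowers a : Set G)) ⧸
        (zpowers a ⊔ center G).subgroupOf (centralizer (zpowers a : Set G))) := by
  have hmem : ∀ x, x ∈ centralizer (zpowers a : Set G) ↔ x * a = a * x := by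
    intro x
    rw [mem_centralizer_iff]
    constructor
    · intro h
      exact (h a (mem_zpowers a)).symm
    · rintro h _ ⟨n, rfl⟩
      exact ((Commute.zpow_right (show Commute x a from h) n).eq).symm
  have hCeq : centralizer (zpowers a : Set G) = centralizer ({a} : Set G) := by
    ext x
    rw [hmem, mem_centralizer_singleton_iff]
  refine ⟨by rw [Nat.card_zpowers, ha], ?_⟩
  apply section_iso_aux a ha _ hmem j hj hcomm hdisj hZ hZ₀
  rw [hCeq]
  exact hC

end Cfsg.Agent.Helper9.JCo
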