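import Mathlib

set_option autoImplicit false

/-! Helper9, S5403: data for the stabilizer chain in the centralizer of the element of order five: five groups of four
vectors of the icosian lattice (a vector and its multiples by the unit), in integer coordinates, and their images
in the lattice of rank 24. -/

namespace Cfsg.Agent.Helper9.JCo

/-- the vectors, in icosian integer coordinates. -/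
def wZ : List (List ℤ) :=
  [[8, 0, 0, 0, 0, 0, 0, 0, 0, 0, 0, 0, 0, 0, 0, 0, 0, 0, 0, 0, 0, 0, 0, 0],
  [-2, 2, 4, 0, 2, 2, 0, 0, 0, 0, 0, 0, 0, 0, 0, 0, 0, 0, 0, 0, 0, 0, 0, 0],
  [-2, -2, -2, 2, 4, 0, 0, 0, 0, 0, 0, 0, 0, 0, 0, 0, 0, 0, 0, 0, 0, 0, 0, 0],
  [-2, -2, 2, -2, -4, 0, 0, 0, 0, 0, 0, 0, 0, 0, 0, 0, 0, 0, 0, 0, 0, 0, 0, 0],
  [0, 0, 0, 0, 0, 0, 0, 0, -6, 2, 0, 0, 2, -2, -4, 0, -2, 2, -4, 0, 2, 2, 0, 0],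
  [0, 0, 0, 0, 0, 0, 0, 0, 6, -2, -4, 0, 0, 0, 2, -2, 2, -2, 0, 0, 4, 0, 2, 2],
  [0, 0, 0, 0, 0, 0, 0, 0, -2, 2, 2, -2, -2, 2, -2, 2, -4, 0, 4, 0, -4, 0, 4, 0],
  [0, 0, 0, 0, 0, 0, 0, 0, 0, 0, -2, 2, 6, -2, 4, 0, 0, 0, -2, 2, -2, -2, -4, 0],
  [0, 0, 0, 0, 0, 0, 0, 0, 4, 0, 2, -2, 0, 0, -6, 2, 0, 0, 2, 2, 4, 0, -2, 2],
  [0, 0, 0, 0, 0, 0, 0, 0, -2, 2, 0, 0, 4, 0, 6, -2, -2, -2, 4, 0, 0, 0, 2, -2],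
  [0, 0, 0, 0, 0, 0, 0, 0, 2, -2, -2, 2, -2, 2, -2, 2, -4, 0, -4, 0, -4, 0, -4, 0],
  [0, 0, 0, 0, 0, 0, 0, 0, -4, 0, 6, -2, 2, -2, 0, 0, 4, 0, -2, -2, 2, -2, 0, 0],
  [0, 0, 0, 0, 0, 0, 0, 0, 0, 0, -6, 2, -4, 0, -2, 2, -4, 0, 2, -2, 0, 0, 2, 2],
  [0, 0, 0, 0, 0, 0, 0, 0, 4, 0, 6, -2, 2, -2, 0, 0, 0, 0, -2, 2, -2, -2, 4, 0],
  [0, 0, 0, 0, 0, 0, 0, 0, -2, 2, -2, 2, -2, 2, 2, -2, 4, 0, 4, 0, -4, 0, -4, 0],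
  [0, 0, 0, 0, 0, 0, 0, 0, 2, -2, 0, 0, 4, 0, -6, 2, -2, 2, 0, 0, 4, 0, -2, -2],
  [0, 0, 0, 0, 0, 0, 0, 0, 2, 2, 0, 0, 2, -2, 4, 0, 2, -2, -4, 0, 6, -2, 0, 0],
  [0, 0, 0, 0, 0, 0, 0, 0, 4, 0, 2, 2, -2, 2, 0, 0, 0, 0, 2, -2, -6, 2, 4, 0],
  [0, 0, 0, 0, 0, 0, 0, 0, -4, 0, 4, 0, 4, 0, -4, 0, -2, 2, -2, 2, 2, -2, -2, 2],
  [0, 0, 0, 0, 0, 0, 0, 0, -2, -2, -4, 0, 0, 0, 2, -2, 6, -2, 4, 0, 0, 0, 2, -2]]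

/-- their images in the lattice of rank 24. -/
def Wtab : List (List ℤ) :=
  [[4, 0, 0, 0, 0, 0, 0, 0, 0, 0, 0, 0, 0, 0, 0, 0, 0, 0, 0, 0, 0, 0, 0, 4],
  [-4, 0, 0, 0, 0, 0, 0, 0, 0, 0, 0, 0, 0, 0, 0, 0, 0, 0, 0, 0, 0, 0, 0, 4],
  [-2, 2, -2, -2, 0, -2, 0, 0, 0, 0, 0, 0, 0, 0, -2, 0, 0, 2, 0, 0, 0, 0, 0, -2],
  [0, -4, 0, 0, 0, 0, 0, 0, 0, 0, 0, 0, 0, 0, 0, 0, 0, 0, 0, 0, 0, 0, 0, -4],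
  [0, 0, 0, 0, 8, 0, 0, 0, 0, 0, 0, 0, 0, 0, 0, 0, 0, 0, 0, 0, 0, 0, 0, 0],
  [0, 0, 0, 0, -2, 0, 2, 2, 2, -2, -2, 2, 2, 2, 0, 2, -2, 0, -2, -2, -2, 2, -2, 0],
  [0, 0, 0, 0, -2, 0, 2, 2, -2, 2, 2, 2, -2, 2, 0, -2, 2, 0, -2, 2, 2, -2, 2, 0],
  [0, 0, 0, 0, -2, 0, -2, -2, 2, 2, -2, -2, 2, -2, 0, -2, 2, 0, 2, 2, -2, -2, -2, 0],
  [0, 0, 0, 0, 0, 0, 8, 0, 0, 0, 0, 0, 0, 0, 0, 0, 0, 0, 0, 0, 0, 0, 0, 0],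
  [0, 0, 0, 0, -2, 0, -2, -2, 2, 2, 2, 2, 2, 2, 0, -2, -2, 0, -2, 2, 2, -2, -2, 0],
  [0, 0, 0, 0, -2, 0, -2, 2, -2, -2, 2, -2, -2, -2, 0, -2, 2, 0, 2, 2, -2, 2, -2, 0],
  [0, 0, 0, 0, 2, 0, -2, -2, 2, 2, -2, 2, -2, -2, 0, 2, 2, 0, 2, -2, 2, 2, 2, 0],
  [0, 0, 0, 0, 0, 0, 0, 8, 0, 0, 0, 0, 0, 0, 0, 0, 0, 0, 0, 0, 0, 0, 0, 0],
  [0, 0, 0, 0, -2, 0, 2, -2, 2, 2, -2, 2, -2, 2, 0, -2, 2, 0, 2, -2, -2, -2, 2, 0],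
  [0, 0, 0, 0, -2, 0, -2, -2, -2, 2, 2, -2, 2, -2, 0, 2, -2, 0, -2, 2, -2, -2, 2, 0],
  [0, 0, 0, 0, 2, 0, 2, -2, -2, -2, -2, -2, -2, -2, 0, -2, -2, 0, 2, 2, 2, 2, -2, 0],
  [0, 0, 0, 0, 0, 0, 0, 0, 8, 0, 0, 0, 0, 0, 0, 0, 0, 0, 0, 0, 0, 0, 0, 0],
  [0, 0, 0, 0, -2, 0, -2, 2, -2, -2, 2, 2, -2, -2, 0, -2, -2, 0, -2, -2, -2, -2, 2, 0],
  [0, 0, 0, 0, 2, 0, 2, -2, -2, 2, -2, 2, 2, -2, 0, -2, 2, 0, 2, 2, -2, 2, 2, 0],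
  [0, 0, 0, 0, -2, 0, -2, -2, -2, 2, -2, -2, 2, 2, 0, 2, -2, 0, -2, -2, 2, 2, -2, 0]]

/-- the mask of the 19 points outside the last orbit. -/
def fixMask : ℕ := 16629715

/-- the propagation steps for the remaining five points. -/
def fixSteps : List (List ℕ × List ℕ × ℕ) := [([3090], [], 2), ([834], [], 3), ([2648], [], 5), ([2516], [], 14), ([2282], [], 17)]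

end Cfsg.Agent.Helper9.JCo
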