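import Mathlib
import Cfsg.Agent.Helper9.JCo.Omega
import Cfsg.Agent.Helper9.JCo.StabData
import Cfsg.Agent.Helper9.Co1Z.KGrp

set_option autoImplicit false

/-! Helper9, S5403: the element of order five of the automorphism group of the lattice of rank 24, and twenty vectors
of the lattice permuted by it. -/

namespace Cfsg.Agent.Helper9.JCo

open Cfsg Cfsg.Spor Quaternion
open Cfsg.Agent.Helper9.J2B Cfsg.Agent.Helper9.Golay Cfsg.Agent.Helper9.Leech Cfsg.Agent.Helper9.LeechAct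

/-- the element of order five. -/
noncomputable def aEl : ↥Co0 := PsiE ⟨omP, omP_mem⟩

theorem aEl_smul_iota (x : icoLeech) : aEl • iota x = iota (omP x) := PsiP_iota omP x

/-- the vectors in integer coordinates. -/
def wZV (i : ℕ) : Z24 := unflL (wZ.getD i [])

/-- the vectors of the lattice of rank 24. -/
noncomputable def wV (i : ℕ) : ↥leechLattice := iota (toLam (wZV i))

theorem wZV_inLam : ∀ i < 20, inLam (wZV i) := by decide +kernel

theorem flL_wZV : ∀ i < 20, flL (wZV i) = wZ.getD i [] := by decide +kernel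

theorem Wtab_getD : ∀ i < 20, iotaL (wZ.getD i []) = Wtab.getD i [] := by decide +kernel

theorem wV_coe (i : ℕ) (hi : i < 20) :
    ((wV i : ↥leechLattice) : GolayPt → ℤ) = toVec (Wtab.getD i []) := by
  unfold wV
  rw [iota_toLam _ (wZV_inLam i hi), flL_wZV i hi, Wtab_getD i hi]

theorem wV_apply (i : ℕ) (hi : i < 20) (p : GolayPt) :
    ((wV i : ↥leechLattice) : GolayPt → ℤ) p = (Wtab.getD i []).getD (ptIdx p) 0 := by
  rw [wV_coe i hi]
  rfl

/-- the multiplication by the unit in integer coordinates. -/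
theorem omP_toLam {V V' : Z24} (h : inLam V) (h' : inLam V')
    (hx : Z8.mul U4 V.x = Z8.sm 4 V'.x) (hy : Z8.mul U4 V.y = Z8.sm 4 V'.y)
    (hz : Z8.mul U4 V.z = Z8.sm 4 V'.z) : omP (toLam V) = toLam V' := by
  apply Subtype.ext
  rw [omP_val, toLam_val V h, toLam_val V' h']
  funext t
  fin_cases t
  · exact phi_mul_of _ _ _ hx
  · exact phi_mul_of _ _ _ hy
  · exact phi_mul_of _ _ _ hz

theorem wZV_step : ∀ i < 20, i % 4 ≠ 3 →
    Z8.mul U4 (wZV i).x = Z8.sm 4 (wZV (i + 1)).x ∧ Z8.mul U4 (wZV i).y = Z8.sm 4 (wZV (i + 1)).y ∧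
      Z8.mul U4 (wZV i).z = Z8.sm 4 (wZV (i + 1)).z := by decide +kernel

theorem aEl_smul_wV (i : ℕ) (hi : i < 20) (h3 : i % 4 ≠ 3) : aEl • wV i = wV (i + 1) := by
  have hi' : i + 1 < 20 := by omega
  obtain ⟨hx, hy, hz⟩ := wZV_step i hi h3
  unfold wV
  rw [aEl_smul_iota, omP_toLam (wZV_inLam i hi) (wZV_inLam (i + 1) hi') hx hy hz]

/-- the vectors with one coordinate 8 among them. -/
theorem Wtab_e8 : Wtab.getD 4 [] = e8L 4 ∧ Wtab.getD 8 [] = e8L 6 ∧ Wtab.getD 12 [] = e8L 7 ∧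
    Wtab.getD 16 [] = e8L 8 := by decide

theorem wV_four : wV 4 = e8 (mkPt 4) := by
  apply Subtype.ext
  rw [wV_coe 4 (by norm_num), e8_coe', Wtab_e8.1]
  rfl

theorem wV_eight : wV 8 = e8 (mkPt 6) := by
  apply Subtype.ext
  rw [wV_coe 8 (by norm_num), e8_coe', Wtab_e8.2.1]
  rfl

theorem wV_twelve : wV 12 = e8 (mkPt 7) := by
  apply Subtype.ext
  rw [wV_coe 12 (by norm_num), e8_coe', Wtab_e8.2.2.1]
  rfl

theorem wV_sixteen : wV 16 = e8 (mkPt 8) := by
  apply Subtype.ext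
  rw [wV_coe 16 (by norm_num), e8_coe', Wtab_e8.2.2.2]
  rfl

theorem Wtab_sum : ∀ p : GolayPt, (Wtab.getD 0 []).getD (ptIdx p) 0 + (Wtab.getD 1 []).getD (ptIdx p) 0 =
    toVec (e8L 23) p := by decide

theorem wV_zero_add_one : wV 0 + wV 1 = e8 none := by
  apply Subtype.ext
  funext p
  rw [AddSubgroup.coe_add, Pi.add_apply, wV_apply 0 (by norm_num), wV_apply 1 (by norm_num), e8_coe', Wtab_sum]
  rfl

/-- the first vector is a minimal vector of the icosian lattice. -/
theorem wZV_zero : wZV 0 = B1 := by decide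

theorem B1_mem_minSet : toLam B1 ∈ minSet := by
  show qip _ _ = 4
  rw [toLam_val B1 B_inLam.1, norm4_iff]
  exact B_min.1

end Cfsg.Agent.Helper9.JCo
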