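import Mathlib
import Cfsg.Agent.Helper9.JCo.StabA
import Cfsg.Agent.Helper9.Golay.Prop
import Cfsg.Agent.Helper9.Golay.Chain

set_option autoImplicit false

/-! Helper9, S5403: the centralizer of the element of order five: the elements fixing the first vector are monomial,
and the vectors fixed restrict the images of the coordinate vectors. -/

namespace Cfsg.Agent.Helper9.JCo

open Cfsg Cfsg.Spor Quaternion
open Cfsg.Agent.Helper9.J2B Cfsg.Agent.Helper9.Golay Cfsg.Agent.Helper9.Leech Cfsg.Agent.Helper9.LeechAct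
open Cfsg.Agent.Helper9.Leech.Mono Cfsg.Agent.Helper9.Co1Z

/-- the centralizer of the element of order five. -/
noncomputable def Ca : Subgroup ↥Co0 := Subgroup.centralizer {aEl}

theorem mem_Ca (g : ↥Co0) : g ∈ Ca ↔ g * aEl = aEl * g := Subgroup.mem_centralizer_singleton_iff

/-- the first vectors are fixed. -/
def FixT (g : ↥Co0) (n : ℕ) : Prop := ∀ i < n, g • wV i = wV i

theorem fix_next {g : ↥Co0} (hg : g ∈ Ca) {i : ℕ} (hi : i < 20) (h3 : i % 4 ≠ 3) (h : g • wV i = wV i) :
    g • wV (i + 1) = wV (i + 1) := by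
  rw [← aEl_smul_wV i hi h3, ← mul_smul, (mem_Ca g).1 hg, mul_smul, h]

theorem fixT_step {g : ↥Co0} (hg : g ∈ Ca) (m : ℕ) (hm : m < 5) (h : FixT g (4 * m))
    (h0 : g • wV (4 * m) = wV (4 * m)) : FixT g (4 * m + 4) := by
  have h1 := fix_next hg (i := 4 * m) (by omega) (by omega) h0
  have h2 := fix_next hg (i := 4 * m + 1) (by omega) (by omega) h1
  have h3 := fix_next hg (i := 4 * m + 1 + 1) (by omega) (by omega) h2
  intro i hi
  by_cases hlt : i < 4 * m
  · exact h i hlt
  · have : i = 4 * m ∨ i = 4 * m + 1 ∨ i = 4 * m + 1 + 1 ∨ i = 4 * m + 1 + 1 + 1 := by omega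
    rcases this with e | e | e | e
    · rw [e]; exact h0
    · rw [e]; exact h1
    · rw [e]; exact h2
    · rw [e]; exact h3

/-- an element of the centralizer fixing the first vector is monomial. -/
theorem exists_mono {g : ↥Co0} (hg : g ∈ Ca) (h0 : g • wV 0 = wV 0) :
    ∃ (σ : Equiv.Perm GolayPt) (hσ : σ ∈ M24) (c : Finset GolayPt)
      (hc : c ∈ supports (golayCode : Set (GolayPt → ZMod 2))), g = monoEl σ hσ c hc := by
  have h1 := fix_next hg (i := 0) (by norm_num) (by norm_num) h0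
  apply exists_monoEl_of_mem_NN
  apply stab_le
  rw [MulAction.mem_stabilizer_iff, ← wV_zero_add_one, Leech.smul_add', h0, h1]

/-- a vector fixed by a monomial element. -/
theorem mono_fix {σ : Equiv.Perm GolayPt} {hσ : σ ∈ M24} {c : Finset GolayPt}
    {hc : c ∈ supports (golayCode : Set (GolayPt → ZMod 2))} {v : ↥leechLattice} {L : List ℤ}
    (hv : ((v : ↥leechLattice) : GolayPt → ℤ) = toVec L) (h : monoEl σ hσ c hc • v = v) (j : ℕ) (hj : j < 24) :
    L.getD (ptIdx (σ (mkPt j))) 0 = (if σ (mkPt j) ∈ c then -1 else 1) * L.getD j 0 := by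
  have h1 := monoEl_smul_apply σ hσ c hc v (σ (mkPt j))
  rw [h, hv] at h1
  have e : σ⁻¹ (σ (mkPt j)) = mkPt j := σ.symm_apply_apply _
  rw [e] at h1
  unfold toVec at h1
  rw [ptIdx_mkPt j hj] at h1
  rw [h1]
  split_ifs <;> ring

/-- the test of a candidate image of a coordinate vector. -/
def candOK (n j j' : ℕ) (neg : Bool) : Bool :=
  (List.range n).all (fun i =>
    (Wtab.getD i []).getD j' 0 == (if neg then -1 else 1) * (Wtab.getD i []).getD j 0)

/-- the candidates. -/
def candList (n j : ℕ) : List (ℕ × Bool) :=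
  ((List.range 24).product [false, true]).filter (fun p => candOK n j p.1 p.2)

theorem cand_of_fix {σ : Equiv.Perm GolayPt} {hσ : σ ∈ M24} {c : Finset GolayPt}
    {hc : c ∈ supports (golayCode : Set (GolayPt → ZMod 2))} {n : ℕ} (hn : n ≤ 20)
    (h : FixT (monoEl σ hσ c hc) n) (j : ℕ) (hj : j < 24) :
    (ptIdx (σ (mkPt j)), decide (σ (mkPt j) ∈ c)) ∈ candList n j := by
  unfold candList
  rw [List.mem_filter]
  constructor
  · rw [List.pair_mem_product]
    refine ⟨List.mem_range.2 (ptIdx_lt _), ?_⟩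
    cases decide (σ (mkPt j) ∈ c) <;> simp
  · unfold candOK
    rw [List.all_eq_true]
    intro i hi
    rw [List.mem_range] at hi
    have h1 := mono_fix (wV_coe i (by omega)) (h i hi) j hj
    rw [beq_iff_eq, h1]
    by_cases hc' : σ (mkPt j) ∈ c <;> simp [hc']

/-- a signed coordinate vector. -/
def sgnE8 (p : ℕ × Bool) : ↥leechLattice := if p.2 = true then -e8 (mkPt p.1) else e8 (mkPt p.1)

theorem mono_smul_e8 {σ : Equiv.Perm GolayPt} {hσ : σ ∈ M24} {c : Finset GolayPt}
    {hc : c ∈ supports (golayCode : Set (GolayPt → ZMod 2))} (j : ℕ) :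
    monoEl σ hσ c hc • e8 (mkPt j) = sgnE8 (ptIdx (σ (mkPt j)), decide (σ (mkPt j) ∈ c)) := by
  rw [monoEl_smul_e8']
  unfold sgnE8
  simp only [mkPt_ptIdx, decide_eq_true_eq]

theorem smul_e8_mem {σ : Equiv.Perm GolayPt} {hσ : σ ∈ M24} {c : Finset GolayPt}
    {hc : c ∈ supports (golayCode : Set (GolayPt → ZMod 2))} {n : ℕ} (hn : n ≤ 20)
    (h : FixT (monoEl σ hσ c hc) n) (j : ℕ) (hj : j < 24) :
    monoEl σ hσ c hc • e8 (mkPt j) ∈ (candList n j).map sgnE8 := by
  rw [mono_smul_e8]
  exact List.mem_map_of_mem (cand_of_fix hn h j hj)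

/-- an orbit inside a list. -/
theorem orbit_le_of_list (K : Subgroup ↥Co0) (b : ↥leechLattice) (l : List ↥leechLattice)
    (h : ∀ g ∈ K, g • b ∈ l) : (MulAction.orbit ↥K b).ncard ≤ l.length := by
  classical
  have h1 : MulAction.orbit ↥K b ⊆ (l.toFinset : Set ↥leechLattice) := by
    rintro x ⟨g, rfl⟩
    simp only [Finset.mem_coe, List.mem_toFinset]
    exact h g.1 g.2
  have h2 := Set.ncard_le_ncard h1 (Set.toFinite _)
  rw [Set.ncard_coe_finset] at h2
  exact h2.trans (List.toFinset_card_le l)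

theorem cand_lengths : (candList 4 4).length = 32 ∧ (candList 8 6).length = 5 ∧
    candList 12 7 = [(7, false)] ∧ candList 16 8 = [(8, false)] := by decide +kernel

theorem cand_last : ∀ j < 24, fixMask.testBit j = true → candList 20 j = [(j, false)] := by decide +kernel

end Cfsg.Agent.Helper9.JCo
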