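import Mathlib
import Cfsg.Agent.Helper9.JCo.StabB

set_option autoImplicit false

/-! Helper9, S5403: the order of the centralizer of the element of order five is at most 6048000, by a chain of
stabilizers. -/

namespace Cfsg.Agent.Helper9.JCo

open Cfsg Cfsg.Spor Quaternion
open Cfsg.Agent.Helper9.J2B Cfsg.Agent.Helper9.Golay Cfsg.Agent.Helper9.Leech Cfsg.Agent.Helper9.LeechAct
open Cfsg.Agent.Helper9.Leech.Mono Cfsg.Agent.Helper9.Co1Z

/-- the chain of stabilizers. -/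
noncomputable def St0 : Subgroup ↥Co0 := Ca ⊓ MulAction.stabilizer ↥Co0 (wV 0)

noncomputable def St1 : Subgroup ↥Co0 := St0 ⊓ MulAction.stabilizer ↥Co0 (e8 (mkPt 4))

noncomputable def St2 : Subgroup ↥Co0 := St1 ⊓ MulAction.stabilizer ↥Co0 (e8 (mkPt 6))

theorem mem_St0 {g : ↥Co0} (h : g ∈ St0) : g ∈ Ca ∧ FixT g 4 := by
  have h1 : g ∈ Ca := h.1
  have h2 : g ∈ MulAction.stabilizer ↥Co0 (wV 0) := h.2
  refine ⟨h1, fixT_step h1 0 (by norm_num) (fun i hi => absurd hi (by omega)) ?_⟩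
  exact MulAction.mem_stabilizer_iff.1 h2

theorem mem_St1 {g : ↥Co0} (h : g ∈ St1) : g ∈ Ca ∧ FixT g 8 := by
  have h1 : g ∈ St0 := h.1
  have h2 : g ∈ MulAction.stabilizer ↥Co0 (e8 (mkPt 4)) := h.2
  obtain ⟨h3, h4⟩ := mem_St0 h1
  refine ⟨h3, fixT_step h3 1 (by norm_num) h4 ?_⟩
  rw [MulAction.mem_stabilizer_iff] at h2
  show g • wV 4 = wV 4
  rw [wV_four, h2]

theorem mem_St2 {g : ↥Co0} (h : g ∈ St2) : g ∈ Ca ∧ FixT g 12 := by
  have h1 : g ∈ St1 := h.1
  have h2 : g ∈ MulAction.stabilizer ↥Co0 (e8 (mkPt 6)) := h.2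
  obtain ⟨h3, h4⟩ := mem_St1 h1
  refine ⟨h3, fixT_step h3 2 (by norm_num) h4 ?_⟩
  rw [MulAction.mem_stabilizer_iff] at h2
  show g • wV 8 = wV 8
  rw [wV_eight, h2]

/-- the commutation, transferred back. -/
theorem comm_of_mem_Ca {g : ↥Co0} (hg : g ∈ Ca) :
    (PsiE.symm g : ↥IsoE).1 * omP = omP * (PsiE.symm g : ↥IsoE).1 := by
  have e1 : PsiE (PsiE.symm g) = g := PsiE.apply_symm_apply g
  have h : PsiE.symm g * ⟨omP, omP_mem⟩ = ⟨omP, omP_mem⟩ * PsiE.symm g := by
    apply PsiE.injective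
    rw [map_mul, map_mul, e1]
    exact (mem_Ca g).1 hg
  exact congrArg Subtype.val h

theorem smul_iota (g : ↥Co0) (x : icoLeech) : g • iota x = iota ((PsiE.symm g : ↥IsoE).1 x) := by
  have e1 : PsiE (PsiE.symm g) = g := PsiE.apply_symm_apply g
  rw [← PsiP_iota, ← PsiE_val, e1]
  rfl

theorem orbit0_le : (MulAction.orbit ↥Ca (wV 0)).ncard ≤ 37800 := by
  have hsub : MulAction.orbit ↥Ca (wV 0) ⊆ iota '' minSet := by
    rintro x ⟨⟨g, hg⟩, rfl⟩
    refine ⟨(PsiE.symm g : ↥IsoE).1 (toLam B1),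
      comm_minSet (PsiE.symm g : ↥IsoE).2 (comm_of_mem_Ca hg) B1_mem_minSet, ?_⟩
    show _ = g • wV 0
    unfold wV
    rw [wZV_zero, smul_iota]
  have hfin : (iota '' minSet).Finite := minSet_finite.image _
  calc (MulAction.orbit ↥Ca (wV 0)).ncard ≤ (iota '' minSet).ncard := Set.ncard_le_ncard hsub hfin
    _ = minSet.ncard := Set.ncard_image_of_injective _ iota.injective
    _ = 37800 := minSet_ncard

theorem orbit1_le : (MulAction.orbit ↥St0 (e8 (mkPt 4))).ncard ≤ 32 := by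
  refine (orbit_le_of_list St0 _ ((candList 4 4).map sgnE8) ?_).trans ?_
  · intro g hg
    obtain ⟨h1, h2⟩ := mem_St0 hg
    obtain ⟨σ, hσ, c, hc, rfl⟩ := exists_mono h1 (h2 0 (by norm_num))
    exact smul_e8_mem (by norm_num) h2 4 (by norm_num)
  · rw [List.length_map, cand_lengths.1]

theorem orbit2_le : (MulAction.orbit ↥St1 (e8 (mkPt 6))).ncard ≤ 5 := by
  refine (orbit_le_of_list St1 _ ((candList 8 6).map sgnE8) ?_).trans ?_
  · intro g hg
    obtain ⟨h1, h2⟩ := mem_St1 hg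
    obtain ⟨σ, hσ, c, hc, rfl⟩ := exists_mono h1 (h2 0 (by norm_num))
    exact smul_e8_mem (by norm_num) h2 6 (by norm_num)
  · rw [List.length_map, cand_lengths.2.1]

theorem fixMask_compl_card :
    (Finset.univ.filter (fun p : GolayPt => fixMask.testBit (ptIdx p) = false)).card = 5 := by decide

theorem St2_eq_bot : St2 = ⊥ := by
  rw [Subgroup.eq_bot_iff_forall]
  intro g hg
  obtain ⟨h1, h2⟩ := mem_St2 hg
  obtain ⟨σ, hσ, c, hc, rfl⟩ := exists_mono h1 (h2 0 (by norm_num))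
  have h3 := smul_e8_mem (by norm_num) h2 7 (by norm_num)
  rw [cand_lengths.2.2.1] at h3
  have h3' : monoEl σ hσ c hc • wV 12 = wV 12 := by
    rw [wV_twelve]
    simpa [sgnE8] using h3
  have h16 := fixT_step h1 3 (by norm_num) h2 h3'
  have h4 := smul_e8_mem (by norm_num) h16 8 (by norm_num)
  rw [cand_lengths.2.2.2] at h4
  have h4' : monoEl σ hσ c hc • wV 16 = wV 16 := by
    rw [wV_sixteen]
    simpa [sgnE8] using h4
  have h20 := fixT_step h1 4 (by norm_num) h16 h4'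
  have key : ∀ p : GolayPt, fixMask.testBit (ptIdx p) = true → σ p = p ∧ p ∉ c := by
    intro p hp
    have h5 := cand_of_fix (le_refl 20) h20 (ptIdx p) (ptIdx_lt p)
    rw [cand_last _ (ptIdx_lt p) hp, mkPt_ptIdx] at h5
    simp only [List.mem_singleton, Prod.mk.injEq, decide_eq_false_iff_not] at h5
    have e : σ p = p := ptIdx_injective h5.1
    refine ⟨e, ?_⟩
    have := h5.2
    rwa [e] at this
  have hσ1 : σ = 1 := eq_one_of_runProp hσ (extra := []) (by simp) fixSteps fixMask (by decide)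
    (fun p hp => (key p hp).1)
  have hc0 : c = ∅ := by
    have hsub : c ⊆ Finset.univ.filter (fun p : GolayPt => fixMask.testBit (ptIdx p) = false) := by
      intro p hp
      rw [Finset.mem_filter]
      refine ⟨Finset.mem_univ _, ?_⟩
      by_contra hne
      rw [Bool.not_eq_false] at hne
      exact (key p hne).2 hp
    have := Finset.card_le_card hsub
    rw [fixMask_compl_card] at this
    rcases card_of_mem_supports hc with h | h | h | h | h
    · exact Finset.card_eq_zero.1 h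
    all_goals omega
  subst hσ1
  subst hc0
  exact monoEl_one_empty

/-- the bound for the order of the centralizer. -/
theorem card_Ca_le : Nat.card ↥Ca ≤ 6048000 := by
  have e0 : Nat.card ↥Ca = (MulAction.orbit ↥Ca (wV 0)).ncard * Nat.card ↥St0 :=
    Cfsg.Agent.Helper9.Golay.card_eq_orbit_mul Ca (wV 0)
  have e1 : Nat.card ↥St0 = (MulAction.orbit ↥St0 (e8 (mkPt 4))).ncard * Nat.card ↥St1 :=
    Cfsg.Agent.Helper9.Golay.card_eq_orbit_mul St0 (e8 (mkPt 4))
  have e2 : Nat.card ↥St1 = (MulAction.orbit ↥St1 (e8 (mkPt 6))).ncard * Nat.card ↥St2 :=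
    Cfsg.Agent.Helper9.Golay.card_eq_orbit_mul St1 (e8 (mkPt 6))
  have e3 : Nat.card ↥St2 = 1 := by
    rw [St2_eq_bot]
    exact Subgroup.card_bot
  rw [e0, e1, e2, e3, mul_one]
  calc _ ≤ 37800 * (32 * 5) := Nat.mul_le_mul orbit0_le (Nat.mul_le_mul orbit1_le orbit2_le)
    _ = 6048000 := by norm_num

end Cfsg.Agent.Helper9.JCo
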