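import Mathlib
import Cfsg.Agent.Helper9.JCo.StabC
import Cfsg.Agent.Helper9.JCo.SecA
import Cfsg.Agent.Helper9.J2B.Order
import Cfsg.Agent.Helper9.Leech.Center

set_option autoImplicit false

/-! Helper9, S5403: the Hall–Janko group as a section of the automorphism group of the lattice of rank 24. -/

namespace Cfsg.Agent.Helper9.JCo

open Cfsg Cfsg.Spor Quaternion
open Cfsg.Agent.Helper9.J2B Cfsg.Agent.Helper9.Golay Cfsg.Agent.Helper9.Leech Cfsg.Agent.Helper9.LeechAct

/-- the multiplication by the unit is not in the reflection group. -/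
theorem omP_not_mem : omP ∉ twoJ2 := by
  intro h
  have h1 := iso_lmul omP (twoJ2_le_isoSub h) (phi U1) phi_U1_mem (toLam B1)
  have h2 := congrFun h1 0
  rw [omP_val, lmul_apply, lmul_apply] at h2
  change phi U4 * (phi U1 * (toLam B1 : Fin 3 → ℍ[ℝ]) 0) = phi U1 * (phi U4 * (toLam B1 : Fin 3 → ℍ[ℝ]) 0) at h2
  rw [toLam_val B1 B_inLam.1, phi3_zero] at h2
  have e1 : phi U1 * phi B1.x = phi (Z8.sm 2 U1) := phi_mul_of _ _ _ (by decide)
  have e2 : phi U4 * phi B1.x = phi (Z8.sm 2 U4) := phi_mul_of _ _ _ (by decide)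
  have e3 : phi U4 * phi (Z8.sm 2 U1) = phi (Z8.dv (Z8.mul U4 (Z8.sm 2 U1)) 4) := phi_mul_of _ _ _ (by decide)
  have e4 : phi U1 * phi (Z8.sm 2 U4) = phi (Z8.dv (Z8.mul U1 (Z8.sm 2 U4)) 4) := phi_mul_of _ _ _ (by decide)
  rw [e1, e2, e3, e4] at h2
  have := phi_injective h2
  revert this
  decide

theorem orderOf_aEl : orderOf aEl = 5 := by
  unfold aEl
  rw [MulEquiv.orderOf_eq, ← orderOf_omP]
  exact Subgroup.orderOf_mk omP omP_mem

/-- the reflection group inside the automorphism group of the lattice of rank 24. -/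
noncomputable def jT : ↥twoJ2 →* ↥Co0 :=
  PsiE.toMonoidHom.comp (Subgroup.inclusion (twoJ2_le_isoSub.trans isoSub_le_IsoE))

theorem jT_injective : Function.Injective jT :=
  PsiE.injective.comp (Subgroup.inclusion_injective _)

theorem jT_comm (t : ↥twoJ2) : jT t * aEl = aEl * jT t := by
  show PsiE _ * PsiE _ = PsiE _ * PsiE _
  rw [← map_mul, ← map_mul]
  congr 1
  apply Subtype.ext
  exact isoSub_comm t.1 (twoJ2_le_isoSub t.2)

theorem aEl_not_mem : aEl ∉ jT.range := by
  rintro ⟨t, ht⟩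
  have h1 : Subgroup.inclusion (twoJ2_le_isoSub.trans isoSub_le_IsoE) t = ⟨omP, omP_mem⟩ := PsiE.injective ht
  have h2 : t.1 = omP := congrArg Subtype.val h1
  exact omP_not_mem (h2 ▸ t.2)

/-- the section. -/
theorem sec_main : Nat.card (Subgroup.zpowers aEl) = 5 ∧
    ∃ (_ : ((Subgroup.zpowers aEl ⊔ Subgroup.center ↥Co0).subgroupOf
        (Subgroup.centralizer (Subgroup.zpowers aEl : Set ↥Co0))).Normal),
      Nonempty (Cfsg.Spor.J2 ≃* ↥(Subgroup.centralizer (Subgroup.zpowers aEl : Set ↥Co0)) ⧸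
        (Subgroup.zpowers aEl ⊔ Subgroup.center ↥Co0).subgroupOf
          (Subgroup.centralizer (Subgroup.zpowers aEl : Set ↥Co0))) := by
  haveI : Finite ↥Co0 := Cfsg.Agent.Helper9.Co1Z.finite_co0'
  refine section_iso aEl orderOf_aEl jT jT_injective jT_comm aEl_not_mem card_center card_main.2.1 ?_
  have := card_Ca_le
  rw [card_main.1]
  exact this

end Cfsg.Agent.Helper9.JCo
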